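import Mathlib
import Cfsg.Prelude.Def_Transfer
import Cfsg.Prelude.Def_PLocal
import Cfsg.Agent.S0659
import Cfsg.Agent.Solvable.FpfThompson
import Cfsg.Agent.PLocal.ConjFunctor
import Cfsg.Prelude.Def_Solvable
import Cfsg.Agent.Lib.MinNormalNonabelian
import Cfsg.Agent.SolvableStructure.AbelianSocle
set_option linter.all false

-- part: H476/MinNormal
section
/-!
A minimal normal subgroup `S` of a finite group `H` whose intersection with a maximal subgroup `M`
is nilpotent of order divisible by an odd prime `r` is an `r`-group.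
-/

set_option autoImplicit false

namespace Cfsg.Agent.H476.MinNormal

open Cfsg

theorem normal_of_normalizer_eq_top {H : Type*} [Group H] {P : Subgroup H}
    (h : Subgroup.normalizer (P : Set H) = ⊤) : P.Normal :=
  Subgroup.normalizer_eq_top_iff.1 h

/-- A minimal normal subgroup `S` of a finite group `H` whose intersection with a maximal subgroup `M`
is nilpotent of order divisible by an odd prime `r` is an `r`-group. -/
theorem isPGroup_of_minimal_normal {H : Type*} [Group H] [Finite H] (S M : Subgroup H) [hSn : S.Normal]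
    (hmin : ∀ T : Subgroup H, T.Normal → T ≤ S → T = ⊥ ∨ T = S)
    (hM : IsCoatom M) (r : ℕ) [hr : Fact r.Prime] (hr2 : r ≠ 2)
    (hnil : Group.IsNilpotent ↥(M ⊓ S)) (hdvd : r ∣ Nat.card ↥(M ⊓ S)) : IsPGroup r S := by
  classical
  by_contra hcon
  set D : Subgroup H := M ⊓ S with hD
  obtain ⟨P⟩ : Nonempty (Sylow r D) := inferInstance
  have hPn : (P : Subgroup D).Normal := by
    have := (Group.isNilpotent_of_finite_tfae (G := D)).out 0 3
    exact (this.1 hnil) r hr P
  set P₀ : Subgroup H := (P : Subgroup D).map D.subtype with hP₀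
  have hP₀r : IsPGroup r P₀ := PLocal.ConjFunctor.isPGroup_map_sylow P
  have hP₀D : P₀ ≤ D := Subgroup.map_subtype_le _
  have hP₀S : P₀ ≤ S := hP₀D.trans inf_le_right
  have hP₀ne : P₀ ≠ ⊥ := by
    intro h
    rw [hP₀, Subgroup.map_eq_bot_iff_of_injective _ D.subtype_injective] at h
    exact P.ne_bot_of_dvd_card hdvd h
  -- nontrivial `r`-subgroups of `S` are not normal
  have hnotnormal : ∀ T : Subgroup H, T ≤ S → T ≠ ⊥ → IsPGroup r T → Subgroup.normalizer (T : Set H) ≠ ⊤ := by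
    intro T hTS hT1 hTr h
    have hTn := normal_of_normalizer_eq_top h
    rcases hmin T hTn hTS with h1 | h1
    · exact hT1 h1
    · exact hcon (h1 ▸ hTr)
  -- `M` normalizes `P₀`
  have hMP : M ≤ Subgroup.normalizer (P₀ : Set H) := by
    intro m hm
    rw [Subgroup.mem_normalizer_iff]
    have hstep : ∀ m ∈ M, ∀ x ∈ P₀, m * x * m⁻¹ ∈ P₀ := by
      intro m hm x hx
      obtain ⟨x', hx', rfl⟩ := hx
      -- the conjugate lies in `D` and is an `r`-element
      have hmem : m * (x' : H) * m⁻¹ ∈ D :=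
        ⟨M.mul_mem (M.mul_mem hm x'.2.1) (M.inv_mem hm), hSn.conj_mem _ x'.2.2 m⟩
      refine ⟨⟨m * (x' : H) * m⁻¹, hmem⟩, ?_, rfl⟩
      obtain ⟨k, hk⟩ := P.isPGroup' ⟨x', hx'⟩
      have hk' : (x' : H) ^ r ^ k = 1 := by
        have h1 := congrArg (fun z : (P : Subgroup D) => ((z : D) : H)) hk
        simpa using h1
      have hpg : IsPGroup r (Subgroup.zpowers (⟨m * (x' : H) * m⁻¹, hmem⟩ : D)) := by
        rw [IsPGroup.iff_card, Nat.card_zpowers]
        have : orderOf (⟨m * (x' : H) * m⁻¹, hmem⟩ : D) ∣ r ^ k := by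
          apply orderOf_dvd_of_pow_eq_one
          apply Subtype.ext
          simp [conj_pow, hk']
        exact (Nat.dvd_prime_pow hr.out).1 this |>.imp fun _ h => h.2
      obtain ⟨Q, hQ⟩ := hpg.exists_le_sylow
      have hPQ : P = Q := by
        have := P.unique_of_normal hPn
        exact Subsingleton.elim P Q
      rw [hPQ]
      exact hQ (Subgroup.mem_zpowers _)
    intro x
    constructor
    · intro hx
      exact hstep m hm x hx
    · intro hx
      have := hstep m⁻¹ (M.inv_mem hm) _ hx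
      have h2 : m⁻¹ * (m * x * m⁻¹) * m⁻¹⁻¹ = x := by group
      rwa [h2] at this
  have hNP : Subgroup.normalizer (P₀ : Set H) = M :=
    (hM.le_iff.1 hMP).resolve_left (hnotnormal P₀ hP₀S hP₀ne hP₀r)
  -- `P₀` is a Sylow subgroup of `S`
  obtain ⟨Q, hQ⟩ := PLocal.ConjFunctor.exists_sylow_of_le hP₀r hP₀S
  have hQ₀ : (Q : Subgroup S).map S.subtype = P₀ := by
    by_contra hne
    have hlt : P₀ < (Q : Subgroup S).map S.subtype := lt_of_le_of_ne hQ (fun h => hne h.symm)
    have h1 := PLocal.ConjFunctor.lt_inf_normalizer (PLocal.ConjFunctor.isPGroup_map_sylow Q) hlt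
    rw [hNP] at h1
    set R : Subgroup H := (Q : Subgroup S).map S.subtype ⊓ M with hR
    have hRD : R ≤ D := le_inf inf_le_right (inf_le_left.trans (Subgroup.map_subtype_le _))
    have hRr : IsPGroup r R := (PLocal.ConjFunctor.isPGroup_map_sylow Q).to_le inf_le_left
    have hRr' : IsPGroup r (R.subgroupOf D) := hRr.comap_of_injective D.subtype D.subtype_injective
    have h2 : (P : Subgroup D) ≤ R.subgroupOf D := by
      intro x hx
      exact h1.le ⟨x, hx, rfl⟩
    have h3 := P.is_maximal' hRr' h2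
    have h4 : R = P₀ := by
      rw [hP₀, ← h3, Subgroup.subgroupOf_map_subtype, inf_eq_left.2 hRD]
    exact h1.ne h4.symm
  -- `Z(J(P₀))`
  set W : Subgroup H := centerThompsonAOf P₀ with hW
  have hWne : W ≠ ⊥ := PLocal.ThompsonJA.centerThompsonAOf_ne_bot P₀ hP₀r hP₀ne
  have hWP : W ≤ P₀ := PLocal.ThompsonJA.centerThompsonAOf_le P₀
  have hMW : M ≤ Subgroup.normalizer (W : Set H) :=
    hMP.trans (PLocal.ThompsonJA.normalizer_le_normalizer_centerThompsonAOf P₀)
  have hNW : Subgroup.normalizer (W : Set H) = M :=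
    (hM.le_iff.1 hMW).resolve_left (hnotnormal W (hWP.trans hP₀S) hWne (hP₀r.to_le hWP))
  have hnpcD : HasNormalPComplement r D := Solvable.FpfThompson.hasNormalPComplement_of_isNilpotent hnil r
  have hnpc : HasNormalPComplement r S := by
    refine Cfsg.Agent.S0659.result hr2 Q ?_
    refine Transfer.PNilpotentBasic.hnc_of_map_le S.subtype S.subtype_injective _ D ?_ hnpcD
    have hmapW : (centerThompsonAOf (Q : Subgroup S)).map S.subtype = W := by
      rw [PLocal.ThompsonJA.map_centerThompsonAOf S.subtype S.subtype_injective, hQ₀]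
    rintro _ ⟨x, hx, rfl⟩
    refine ⟨?_, x.2⟩
    change (x : H) ∈ M
    rw [← hNW, Subgroup.mem_normalizer_iff]
    rw [SetLike.mem_coe, Subgroup.mem_normalizer_iff] at hx
    intro w
    rw [← hmapW]
    constructor
    · rintro ⟨w', hw', rfl⟩
      exact ⟨x * w' * x⁻¹, (hx w').1 hw', rfl⟩
    · rintro ⟨w', hw', hww⟩
      refine ⟨x⁻¹ * w' * x, ?_, ?_⟩
      · have := (hx (x⁻¹ * w' * x)).2 (by
          have e : x * (x⁻¹ * w' * x) * x⁻¹ = w' := by group
          rw [e]; exact hw')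
        exact this
      · rw [map_mul, map_mul, map_inv, hww]
        change (x : H)⁻¹ * ((x : H) * w * (x : H)⁻¹) * (x : H) = w
        group
  obtain ⟨N, hN, h1, h2⟩ := Transfer.NormalPComplement.hasNormalPComplement_iff.1 hnpc
  have hmemN := Transfer.NormalPComplement.mem_iff_coprime_orderOf' N h1 h2
  have hNn : (N.map S.subtype).Normal := by
    constructor
    rintro _ ⟨x, hx, rfl⟩ g
    have hx' := (hmemN x).1 hx
    refine ⟨⟨g * (x : H) * g⁻¹, hSn.conj_mem _ x.2 g⟩, ?_, rfl⟩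
    refine (hmemN _).2 ?_
    have : orderOf (⟨g * (x : H) * g⁻¹, hSn.conj_mem _ x.2 g⟩ : S) = orderOf x := by
      rw [← Subgroup.orderOf_coe, ← Subgroup.orderOf_coe x]
      exact orderOf_injective (MulAut.conj g).toMonoidHom (MulAut.conj g).injective (x : H)
    rw [this]; exact hx'
  rcases hmin _ hNn (Subgroup.map_subtype_le _) with h3 | h3
  · rw [Subgroup.map_eq_bot_iff_of_injective _ S.subtype_injective] at h3
    subst h3
    exact hcon (h2.of_injective (QuotientGroup.mk' (⊥ : Subgroup S)) (by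
      rw [← MonoidHom.ker_eq_bot_iff, QuotientGroup.ker_mk']))
  · have h4 : Nat.card N = Nat.card S := by
      have h5 := Nat.card_congr (N.equivMapOfInjective S.subtype S.subtype_injective).toEquiv
      rw [h5, h3]
    have h6 : r ∣ Nat.card S := hdvd.trans (Subgroup.card_dvd_of_le inf_le_right)
    rw [h4] at h1
    exact (Nat.Prime.coprime_iff_not_dvd hr.out).1 h1.symm h6

end Cfsg.Agent.H476.MinNormal
end

-- part: H476/MaxCentralizer
section
/-!
Finite groups in which centralizers of certain elements are maximal subgroups.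
-/

set_option autoImplicit false

namespace Cfsg.Agent.H476.MaxCentralizer

open Cfsg

variable {G : Type*} [Group G]

theorem mem_cz {g k : G} : k ∈ Subgroup.centralizer ({g} : Set G) ↔ k * g = g * k :=
  Subgroup.mem_centralizer_singleton_iff

/-- In a finite group, commuting elements of coprime orders are powers of their product. -/
theorem exists_pow_mul_eq [Finite G] {x y : G} (hc : x * y = y * x) (hco : (orderOf x).Coprime (orderOf y)) :
    (∃ n : ℕ, (x * y) ^ n = x) ∧ ∃ n : ℕ, (x * y) ^ n = y := by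
  have hc' : Commute x y := hc
  constructor
  · obtain ⟨m, hm⟩ := exists_pow_eq_self_of_coprime (x := x) (n := orderOf y) hco.symm
    refine ⟨orderOf y * m, ?_⟩
    rw [pow_mul, hc'.mul_pow, pow_orderOf_eq_one, mul_one, hm]
  · obtain ⟨m, hm⟩ := exists_pow_eq_self_of_coprime (x := y) (n := orderOf x) hco
    refine ⟨orderOf x * m, ?_⟩
    rw [pow_mul, hc'.mul_pow, pow_orderOf_eq_one, one_mul, hm]

/-- `C(x y) ≤ C(x) ∩ C(y)` for commuting elements of coprime orders. -/
theorem cz_mul_le [Finite G] {x y : G} (hc : x * y = y * x) (hco : (orderOf x).Coprime (orderOf y)) :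
    Subgroup.centralizer ({x * y} : Set G) ≤ Subgroup.centralizer ({x} : Set G) ∧
    Subgroup.centralizer ({x * y} : Set G) ≤ Subgroup.centralizer ({y} : Set G) := by
  obtain ⟨⟨m, hm⟩, ⟨n, hn⟩⟩ := exists_pow_mul_eq hc hco
  constructor
  · intro g hg
    rw [mem_cz] at hg ⊢
    rw [← hm]
    exact (Commute.pow_right hg m)
  · intro g hg
    rw [mem_cz] at hg ⊢
    rw [← hn]
    exact (Commute.pow_right hg n)

/-- The centralizer of an `r`-element that is maximal, with the property that products with `r'`-elements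
again have maximal centralizer: the `r'`-elements of `N` are centralized. -/
theorem cz_le_of_coprime [Finite G] (X : Subgroup G) (Z : Subgroup G)
    (hcoat : ∀ v ∈ X, v ∉ Z → IsCoatom (Subgroup.centralizer ({v} : Set G)))
    {x y : G} (hx : x ∈ X) (hxZ : x ∉ Z) (hy : y ∈ X) (hc : x * y = y * x)
    (hco : (orderOf x).Coprime (orderOf y)) :
    Subgroup.centralizer ({x} : Set G) ≤ Subgroup.centralizer ({y} : Set G) := by
  obtain ⟨h1, h2⟩ := cz_mul_le hc hco
  have h3 : x * y ∉ Z := by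
    intro h
    obtain ⟨⟨m, hm⟩, -⟩ := exists_pow_mul_eq hc hco
    exact hxZ (hm ▸ Z.pow_mem h m)
  have h4 := hcoat (x * y) (X.mul_mem hx hy) h3
  have h5 := hcoat x hx hxZ
  have h6 : Subgroup.centralizer ({x} : Set G) = Subgroup.centralizer ({x * y} : Set G) :=
    (h4.le_iff.1 h1).resolve_left h5.1
  rw [h6]
  exact h2

/-- Nilpotency of the intersection of a maximal centralizer with a normal subgroup. -/
theorem isNilpotent_inf [Finite G] (X : Subgroup G) (Z : Subgroup G)
    (hcoat : ∀ v ∈ X, v ∉ Z → IsCoatom (Subgroup.centralizer ({v} : Set G)))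
    {x : G} (hx : x ∈ X) (hxZ : x ∉ Z) {r : ℕ} [hr : Fact r.Prime] {k : ℕ} (hxr : orderOf x = r ^ k)
    (S : Subgroup G) (hS : S ≤ X) :
    Group.IsNilpotent ↥(Subgroup.centralizer ({x} : Set G) ⊓ S) := by
  set D : Subgroup G := Subgroup.centralizer ({x} : Set G) ⊓ S with hD
  apply Group.of_quotient_center_nilpotent
  have hp : IsPGroup r (↥D ⧸ Subgroup.center ↥D) := by
    intro d
    obtain ⟨d, rfl⟩ := QuotientGroup.mk_surjective d
    -- the `r'`-part of `d` is central
    obtain ⟨a, m, hm, hdm⟩ := Nat.exists_eq_pow_mul_and_not_dvd (n := orderOf d) (orderOf_pos d).ne' r hr.out.ne_one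
    refine ⟨a, ?_⟩
    rw [← QuotientGroup.mk_pow, QuotientGroup.eq_one_iff, Subgroup.mem_center_iff]
    have hord : (orderOf x).Coprime (orderOf (((d : G)) ^ r ^ a)) := by
      rw [hxr]
      apply Nat.Coprime.pow_left
      rw [Nat.Prime.coprime_iff_not_dvd hr.out]
      intro hdvd
      have h1 : orderOf ((d : G) ^ r ^ a) ∣ m := by
        apply orderOf_dvd_of_pow_eq_one
        rw [← pow_mul, ← hdm, ← Subgroup.coe_pow, pow_orderOf_eq_one, Subgroup.coe_one]
      exact hm (hdvd.trans h1)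
    have hcomm : x * ((d : G) ^ r ^ a) = (d : G) ^ r ^ a * x := by
      have h1 : (d : G) * x = x * (d : G) := mem_cz.1 d.2.1
      exact ((Commute.pow_left (show Commute (d : G) x from h1) (r ^ a)).eq).symm
    have h2 := cz_le_of_coprime X Z hcoat hx hxZ (hS (S.pow_mem d.2.2 (r ^ a))) hcomm hord
    intro e
    apply Subtype.ext
    exact mem_cz.1 (h2 e.2.1)
  exact hp.isNilpotent

end Cfsg.Agent.H476.MaxCentralizer
end

-- part: H476/MaxCentStruct
section
/-!
The structure of a normal closure `X = ⟨x^G⟩`, when centralizers of the elements of `X` outside `Z(X)` are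
maximal subgroups of `G` and `X` is not abelian.
-/

set_option autoImplicit false

namespace Cfsg.Agent.H476.MaxCentralizer

open Cfsg

variable {G : Type*} [Group G]

/-- If the centralizers of the elements of `X ∖ Z` are maximal (`X ⊴ G`, `Z = Z(X)`) and `S / Z` is a chief factor
with `S ≤ X` then `S / Z` is elementary abelian. -/
theorem chief_elementary [Finite G] (X Z S : Subgroup G) [hZn : Z.Normal] [hSn : S.Normal]
    (hcoat : ∀ v ∈ X, v ∉ Z → IsCoatom (Subgroup.centralizer ({v} : Set G)))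
    (hZX : ∀ v ∈ X, Z ≤ Subgroup.centralizer ({v} : Set G))
    (hZS : Z < S) (hSX : S ≤ X)
    (hmin : ∀ T : Subgroup G, T.Normal → Z ≤ T → T ≤ S → T = Z ∨ T = S) :
    ∃ p : ℕ, p.Prime ∧ (∀ s ∈ S, s ^ p ∈ Z) ∧ ∀ s ∈ S, ∀ t ∈ S, s * t * s⁻¹ * t⁻¹ ∈ Z := by
  classical
  set π := QuotientGroup.mk' Z with hπ
  have hker : ∀ g : G, π g = 1 ↔ g ∈ Z := fun g => QuotientGroup.eq_one_iff g
  have hsurj : Function.Surjective π := QuotientGroup.mk'_surjective Z
  set S' : Subgroup (G ⧸ Z) := S.map π with hS'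
  have hS'n : S'.Normal := hSn.map π hsurj
  have hmin' : ∀ T : Subgroup (G ⧸ Z), T.Normal → T ≤ S' → T = ⊥ ∨ T = S' := by
    intro T hT hTS
    have h1 : Z ≤ T.comap π := by
      intro z hz
      rw [Subgroup.mem_comap, (hker z).2 hz]
      exact T.one_mem
    have h2 : T.comap π ≤ S := by
      intro g hg
      obtain ⟨s, hs, hsg⟩ := hTS (Subgroup.mem_comap.1 hg)
      have : π (s⁻¹ * g) = 1 := by rw [map_mul, map_inv, hsg, inv_mul_cancel]
      have h3 := hZS.le ((hker _).1 this)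
      have h4 := S.mul_mem hs h3
      rwa [mul_inv_cancel_left] at h4
    rcases hmin _ (hT.comap π) h1 h2 with h3 | h3
    · left
      rw [eq_bot_iff]
      intro t ht
      obtain ⟨g, rfl⟩ := hsurj t
      have : g ∈ T.comap π := ht
      rw [h3] at this
      exact (hker g).2 this
    · right
      rw [hS', ← h3, Subgroup.map_comap_eq_self_of_surjective hsurj]
  have hS'ne : S' ≠ ⊥ := by
    intro h
    apply hZS.not_ge
    intro s hs
    have : π s ∈ S' := ⟨s, hs, rfl⟩
    rw [h, Subgroup.mem_bot] at this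
    exact (hker s).1 this
  -- `S'` is a `p`-group
  have hpgroup : ∃ p : ℕ, p.Prime ∧ IsPGroup p S' := by
    by_cases h2 : ∀ r : ℕ, r.Prime → r ∣ Nat.card S' → r = 2
    · refine ⟨2, Nat.prime_two, ?_⟩
      rw [IsPGroup.iff_card]
      exact ⟨_, Nat.eq_prime_pow_of_unique_prime_dvd Nat.card_pos.ne' (fun {d} hd hdv => h2 d hd hdv)⟩
    · push Not at h2
      obtain ⟨r, hr, hrd, hr2⟩ := h2
      haveI : Fact r.Prime := ⟨hr⟩
      refine ⟨r, hr, ?_⟩
      obtain ⟨y', hy'⟩ := exists_prime_orderOf_dvd_card' r hrd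
      obtain ⟨y₀, hy₀S, hy₀⟩ := y'.2
      -- replace `y₀` by an `r`-element
      obtain ⟨a, m, hm, ham⟩ := Nat.exists_eq_pow_mul_and_not_dvd (n := orderOf y₀) (orderOf_pos y₀).ne' r hr.ne_one
      set y : G := y₀ ^ m with hy
      have hyS : y ∈ S := S.pow_mem hy₀S m
      have hm0 : m ≠ 0 := by
        rintro rfl
        exact hm (dvd_zero r)
      have hordy : orderOf y = r ^ a := by
        rw [hy, orderOf_pow' y₀ hm0, ham, Nat.gcd_eq_right (Dvd.intro_left _ rfl)]
        exact Nat.mul_div_cancel _ (Nat.pos_of_ne_zero hm0)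
      have hyZ : y ∉ Z := by
        intro h
        have h1 : (π y₀) ^ m = 1 := by rw [← map_pow]; exact (hker _).2 h
        have h3 : orderOf (π y₀) = r := by rw [hy₀, Subgroup.orderOf_coe, hy']
        exact hm (h3 ▸ orderOf_dvd_of_pow_eq_one h1)
      have hyM := hcoat y (hSX hyS) hyZ
      set M : Subgroup G := Subgroup.centralizer ({y} : Set G) with hM
      have hZM : Z ≤ M := hZX y (hSX hyS)
      have hcomap : (M.map π).comap π = M := by
        rw [Subgroup.comap_map_eq, QuotientGroup.ker_mk', sup_eq_left.2 hZM]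
      have hM' : IsCoatom (M.map π) := by
        constructor
        · intro h
          apply hyM.1
          rw [← hcomap, h, Subgroup.comap_top]
        · intro T hT
          have h1 : M < T.comap π := by
            rw [← hcomap]
            exact Subgroup.comap_lt_comap_of_surjective hsurj |>.2 hT
          have h3 := hyM.2 _ h1
          rw [← Subgroup.map_comap_eq_self_of_surjective hsurj T, h3, Subgroup.map_top_of_surjective _ hsurj]
      have hinf : M.map π ⊓ S' = (M ⊓ S).map π := by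
        apply le_antisymm
        · rintro t ⟨⟨m, hm, rfl⟩, ⟨s, hs, hst⟩⟩
          refine ⟨m, ⟨hm, ?_⟩, rfl⟩
          have : π (s⁻¹ * m) = 1 := by rw [map_mul, map_inv, hst, inv_mul_cancel]
          have h3 := hZS.le ((hker _).1 this)
          have h4 := S.mul_mem hs h3
          rwa [mul_inv_cancel_left] at h4
        · exact le_inf (Subgroup.map_mono inf_le_left) (Subgroup.map_mono inf_le_right)
      have hnil := isNilpotent_inf X Z hcoat (hSX hyS) hyZ hordy S hSX
      refine MinNormal.isPGroup_of_minimal_normal S' (M.map π) hmin' hM' r hr2 ?_ ?_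
      · rw [hinf]
        exact Group.nilpotent_of_surjective (π.subgroupMap (M ⊓ S)) (π.subgroupMap_surjective (M ⊓ S))
      · rw [hinf]
        have h5 : π y ∈ (M ⊓ S).map π := ⟨y, ⟨mem_cz.2 rfl, hyS⟩, rfl⟩
        have h6 : orderOf (π y) ∣ r ^ a := by
          rw [← hordy]; exact orderOf_map_dvd π y
        obtain ⟨b, hb, hb'⟩ := (Nat.dvd_prime_pow hr).1 h6
        have hb0 : b ≠ 0 := by
          rintro rfl
          rw [pow_zero, orderOf_eq_one_iff] at hb'
          exact hyZ ((hker y).1 hb')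
        have h7 : orderOf (π y) ∣ Nat.card ↥((M ⊓ S).map π) := Subgroup.orderOf_dvd_natCard _ h5
        rw [hb'] at h7
        exact (dvd_pow_self r hb0).trans h7
  obtain ⟨p, hp, hpS⟩ := hpgroup
  haveI : Fact p.Prime := ⟨hp⟩
  -- `S'` is abelian
  have hab : ∀ x ∈ S', ∀ y ∈ S', Commute x y := by
    have h1 : (S' ⊓ Subgroup.centralizer (S' : Set (G ⧸ Z))).Normal := inferInstance
    rcases hmin' _ h1 inf_le_left with h | h
    · exfalso
      haveI : Nontrivial S' := (Subgroup.nontrivial_iff_ne_bot S').2 hS'ne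
      have h2 := hpS.bot_lt_center
      obtain ⟨z, hz, hz1⟩ := SetLike.exists_of_lt h2
      apply hz1
      have h3 : (z : G ⧸ Z) ∈ S' ⊓ Subgroup.centralizer (S' : Set (G ⧸ Z)) := by
        refine ⟨z.2, Subgroup.mem_centralizer_iff.2 fun w hw => ?_⟩
        exact congrArg Subtype.val (Subgroup.mem_center_iff.1 hz ⟨w, hw⟩)
      rw [h, Subgroup.mem_bot] at h3
      exact Subgroup.mem_bot.2 (Subtype.ext h3)
    · intro x hx y hy
      rw [← h] at hx
      exact (Subgroup.mem_centralizer_iff.1 hx.2 y hy).symm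
  obtain ⟨p, hp, -, hexp⟩ := Lib.MinNormalNonabelian.abelian_structure S' hS'ne hmin' hab
  refine ⟨p, hp, ?_, ?_⟩
  · intro s hs
    rw [← hker, map_pow]
    exact hexp _ ⟨s, hs, rfl⟩
  · intro s hs t ht
    rw [← hker, map_mul, map_mul, map_mul, map_inv, map_inv, (hab (π s) ⟨s, hs, rfl⟩ (π t) ⟨t, ht, rfl⟩).eq]
    group

/-- Structure of a nonabelian normal closure `X = ⟨x^G⟩` when centralizers of the elements of `X ∖ Z(X)` are
maximal in `G`. -/
theorem structure_normalClosure [Finite G] (x : G) (X Z : Subgroup G) (hX : X = Subgroup.normalClosure {x})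
    (hZ : Z = X ⊓ Subgroup.centralizer (X : Set G)) (hxZ : x ∉ Z)
    (hcoat : ∀ v ∈ X, v ∉ Z → IsCoatom (Subgroup.centralizer ({v} : Set G))) :
    ∃ S : Subgroup G, S.Normal ∧ Z < S ∧ S ≤ X ∧
      (∃ p : ℕ, p.Prime ∧ ∀ s ∈ S, s ^ p ∈ Z) ∧
      (∀ s ∈ S, ∀ t ∈ S, s * t = t * s) ∧
      (∃ q : ℕ, q.Prime ∧ x ^ q ∈ Z) ∧
      (∀ s ∈ S, s * x * s⁻¹ * x⁻¹ ∈ Z → s ∈ Z) ∧
      X ≤ S ⊔ Subgroup.zpowers x ∧
      X ⊔ Subgroup.centralizer (X : Set G) = ⊤ ∧
      (∀ v ∈ S, v ∉ Z → Subgroup.centralizer ({x} : Set G) ⊔ Subgroup.zpowers v = ⊤) := by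
  classical
  haveI hXn : X.Normal := hX ▸ Subgroup.normalClosure_normal
  haveI hZn : Z.Normal := hZ ▸ inferInstance
  have hxX : x ∈ X := hX ▸ Subgroup.subset_normalClosure (Set.mem_singleton x)
  have hZX : Z ≤ X := hZ ▸ inf_le_left
  have hZcX : Z ≤ Subgroup.centralizer (X : Set G) := hZ ▸ inf_le_right
  have hZc : ∀ v ∈ X, Z ≤ Subgroup.centralizer ({v} : Set G) := by
    intro v hv z hz
    rw [mem_cz]
    exact (Subgroup.mem_centralizer_iff.1 (hZcX hz) v hv).symm
  -- the smallest normal subgroup containing `x`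
  have hXle : ∀ T : Subgroup G, T.Normal → x ∈ T → X ≤ T := by
    intro T hT hxT
    rw [hX]
    exact Subgroup.normalClosure_le_normal (Set.singleton_subset_iff.2 hxT)
  -- minimal `S`
  obtain ⟨S, ⟨hSn, hZS, hSX⟩, hSmin⟩ := Set.Finite.exists_minimal (s := {T : Subgroup G | T.Normal ∧ Z < T ∧ T ≤ X})
    (Set.toFinite _) ⟨X, hXn, lt_of_le_of_ne hZX (fun h => hxZ (h ▸ hxX)), le_refl X⟩
  have hmin : ∀ T : Subgroup G, T.Normal → Z ≤ T → T ≤ S → T = Z ∨ T = S := by
    intro T hT h1 h2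
    rcases eq_or_lt_of_le h1 with h3 | h3
    · exact Or.inl h3.symm
    · right
      exact le_antisymm h2 (hSmin ⟨hT, h3, h2.trans hSX⟩ h2)
  obtain ⟨p, hp, hexp, hcomm⟩ := chief_elementary X Z S hcoat hZc hZS hSX hmin
  set M : Subgroup G := Subgroup.centralizer ({x} : Set G) with hM
  have hMc : IsCoatom M := hcoat x hxX hxZ
  -- a normal subgroup of `G` inside `M` centralizes `X`
  have hcore : ∀ T : Subgroup G, T.Normal → T ≤ M → T ≤ Subgroup.centralizer (X : Set G) := by
    intro T hT hTM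
    have h1 : x ∈ Subgroup.centralizer (T : Set G) := by
      rw [Subgroup.mem_centralizer_iff]
      intro t ht
      exact mem_cz.1 (hTM ht)
    have h2 : X ≤ Subgroup.centralizer (T : Set G) := hXle _ inferInstance h1
    exact Subgroup.le_centralizer_iff.1 h2
  have hSM : ¬ S ≤ M := by
    intro h
    apply hZS.not_ge
    rw [hZ]
    exact le_inf hSX (hcore S hSn h)
  have hMS : M ⊔ S = ⊤ := by
    rcases hMc.le_iff.1 (le_sup_left : M ≤ M ⊔ S) with h | h
    · exact h
    · exact absurd (le_sup_right.trans h.le) hSM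
  have hZM : Z ≤ M := hZc x hxX
  -- decomposition `G = S M`
  have hdec : ∀ g : G, ∃ s ∈ S, ∃ m ∈ M, g = s * m := by
    intro g
    have hg : g ∈ S ⊔ M := by rw [sup_comm, hMS]; exact Subgroup.mem_top g
    rw [Subgroup.mem_sup_of_normal_left] at hg
    obtain ⟨s, hs, m, hm, h⟩ := hg
    exact ⟨s, hs, m, hm, h.symm⟩
  -- `M ∩ S = Z`
  have hMinf : M ⊓ S = Z := by
    have hn : (M ⊓ S).Normal := by
      constructor
      intro t ht g
      obtain ⟨s, hs, m, hm, rfl⟩ := hdec g
      have h1 : m * t * m⁻¹ ∈ M ⊓ S := ⟨M.mul_mem (M.mul_mem hm ht.1) (M.inv_mem hm), hSn.conj_mem t ht.2 m⟩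
      have h2 : s * (m * t * m⁻¹) * s⁻¹ * (m * t * m⁻¹)⁻¹ ∈ Z := hcomm s hs _ h1.2
      have h3 : s * m * t * (s * m)⁻¹ = (s * (m * t * m⁻¹) * s⁻¹ * (m * t * m⁻¹)⁻¹) * (m * t * m⁻¹) := by group
      rw [h3]
      exact (M ⊓ S).mul_mem (le_inf hZM hZS.le h2) h1
    rcases hmin _ hn (le_inf hZM hZS.le) inf_le_right with h | h
    · exact h
    · exact absurd (inf_eq_right.1 h) hSM
  -- conjugates of `x`
  have hXS : X ≤ S ⊔ Subgroup.zpowers x := by
    rw [hX, Subgroup.normalClosure, Subgroup.closure_le]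
    intro y hy
    rw [Group.mem_conjugatesOfSet_iff] at hy
    obtain ⟨a, ha, hy⟩ := hy
    rw [Set.mem_singleton_iff] at ha
    subst ha
    obtain ⟨g, rfl⟩ := isConj_iff.1 hy
    obtain ⟨s, hs, m, hm, rfl⟩ := hdec g
    have hmx : m * a = a * m := mem_cz.1 hm
    have h1 : s * m * a * (s * m)⁻¹ = (s * (a * s⁻¹ * a⁻¹)) * a := by
      calc s * m * a * (s * m)⁻¹ = s * (m * a) * m⁻¹ * s⁻¹ := by group
        _ = s * (a * m) * m⁻¹ * s⁻¹ := by rw [hmx]
        _ = (s * (a * s⁻¹ * a⁻¹)) * a := by group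
    rw [h1]
    exact Subgroup.mul_mem _ (Subgroup.mem_sup_left (S.mul_mem hs (hSn.conj_mem _ (S.inv_mem hs) a)))
      (Subgroup.mem_sup_right (Subgroup.mem_zpowers a))
  -- centralizers mod `Z`
  have hTv : ∀ v ∈ S, v ∉ Z → ∀ g : G, g * v * g⁻¹ * v⁻¹ ∈ Z → g ∈ Subgroup.centralizer ({v} : Set G) := by
    intro v hv hvZ g hg
    set π := QuotientGroup.mk' Z with hπ
    have hker : ∀ g : G, π g = 1 ↔ g ∈ Z := fun g => QuotientGroup.eq_one_iff g
    have hsurj : Function.Surjective π := QuotientGroup.mk'_surjective Z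
    set T : Subgroup G := (Subgroup.centralizer ({π v} : Set (G ⧸ Z))).comap π with hT
    have hTmem : ∀ g : G, g ∈ T ↔ g * v * g⁻¹ * v⁻¹ ∈ Z := by
      intro g
      rw [hT, Subgroup.mem_comap, Subgroup.mem_centralizer_singleton_iff, ← hker]
      simp only [map_mul, map_inv]
      constructor
      · intro h; rw [h]; group
      · intro h
        rw [mul_inv_eq_one, mul_inv_eq_iff_eq_mul] at h
        exact h
    have hvc := hcoat v (hSX hv) hvZ
    have h1 : Subgroup.centralizer ({v} : Set G) ≤ T := by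
      intro g hg
      rw [hTmem]
      rw [mem_cz] at hg
      rw [hg]
      have : v * g * g⁻¹ * v⁻¹ = 1 := by group
      rw [this]
      exact Z.one_mem
    rcases hvc.le_iff.1 h1 with h2 | h2
    · exfalso
      -- `v` is central mod `Z`
      set U : Subgroup G := S ⊓ (Subgroup.center (G ⧸ Z)).comap π with hU
      have hUn : U.Normal := inferInstance
      have hvU : v ∈ U := by
        refine Subgroup.mem_inf.2 ⟨hv, ?_⟩
        rw [Subgroup.mem_comap, Subgroup.mem_center_iff]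
        intro g'
        obtain ⟨g, rfl⟩ := hsurj g'
        have : g ∈ T := h2 ▸ Subgroup.mem_top g
        rw [hT, Subgroup.mem_comap, Subgroup.mem_centralizer_singleton_iff] at this
        exact this
      have hZU : Z ≤ U := by
        intro z hz
        refine Subgroup.mem_inf.2 ⟨hZS.le hz, ?_⟩
        rw [Subgroup.mem_comap, (hker z).2 hz]
        exact Subgroup.one_mem _
      have hUS : U = S := by
        rcases hmin U hUn hZU inf_le_left with h | h
        · exact absurd (h ▸ hvU) hvZ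
        · exact h
      have hScen : ∀ s ∈ S, ∀ g : G, s * g * s⁻¹ * g⁻¹ ∈ Z := by
        intro s hs g
        rw [← hUS] at hs
        have h3 := Subgroup.mem_center_iff.1 (Subgroup.mem_comap.1 hs.2) (π g)
        rw [← hker]
        simp only [map_mul, map_inv]
        rw [← h3]
        group
      -- so all conjugates of `x` lie in `M`
      have hXM : X ≤ M := by
        rw [hX, Subgroup.normalClosure, Subgroup.closure_le]
        intro y hy
        rw [Group.mem_conjugatesOfSet_iff] at hy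
        obtain ⟨a, ha, hy⟩ := hy
        rw [Set.mem_singleton_iff] at ha
        subst ha
        obtain ⟨g, rfl⟩ := isConj_iff.1 hy
        obtain ⟨s, hs, m, hm, rfl⟩ := hdec g
        have hmx : m * a = a * m := mem_cz.1 hm
        have h1 : s * m * a * (s * m)⁻¹ = (s * a * s⁻¹ * a⁻¹) * a := by
          calc s * m * a * (s * m)⁻¹ = s * (m * a) * m⁻¹ * s⁻¹ := by group
            _ = s * (a * m) * m⁻¹ * s⁻¹ := by rw [hmx]
            _ = (s * a * s⁻¹ * a⁻¹) * a := by group
        rw [h1]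
        exact M.mul_mem (hZM (hScen s hs a)) (mem_cz.2 rfl)
      apply hxZ
      rw [hZ]
      refine Subgroup.mem_inf.2 ⟨hxX, ?_⟩
      rw [Subgroup.mem_centralizer_iff]
      intro y hy
      exact mem_cz.1 (hXM hy)
    · rw [← h2]
      exact (hTmem g).2 hg
  have hxTv : ∀ s ∈ S, s * x * s⁻¹ * x⁻¹ ∈ Z → s ∈ Z := by
    intro s hs h
    by_contra hsZ
    have h1 : x * s * x⁻¹ * s⁻¹ ∈ Z := by
      have h2 := Z.inv_mem h
      have h3 : (s * x * s⁻¹ * x⁻¹)⁻¹ = x * s * x⁻¹ * s⁻¹ := by group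
      rwa [h3] at h2
    have h2 := mem_cz.1 (hTv s hs hsZ x h1)
    have h3 : s ∈ M ⊓ S := ⟨mem_cz.2 h2.symm, hs⟩
    rw [hMinf] at h3
    exact hsZ h3
  have hScomm : ∀ s ∈ S, ∀ t ∈ S, s * t = t * s := by
    intro s hs t ht
    by_cases htZ : t ∈ Z
    · exact mem_cz.1 (hZc s (hSX hs) htZ) |>.symm
    · exact mem_cz.1 (hTv t ht htZ s (hcomm s hs t ht))
  -- choose `v`
  obtain ⟨v, hvS, hvZ⟩ := SetLike.exists_of_lt hZS
  set C : Subgroup G := Subgroup.centralizer ({v} : Set G) with hC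
  have hCc : IsCoatom C := hcoat v (hSX hvS) hvZ
  have hSC : S ≤ C := fun s hs => mem_cz.2 (hScomm s hs v hvS)
  have hxC : x ∉ C := by
    intro h
    have h1 : v ∈ M ⊓ S := ⟨mem_cz.2 (mem_cz.1 h).symm, hvS⟩
    rw [hMinf] at h1
    exact hvZ h1
  have hCn : C.Normal := by
    have h1 : ∀ c ∈ C, x * c * x⁻¹ ∈ C := by
      intro c hc
      obtain ⟨s, hs, m, hm, rfl⟩ := hdec c
      have hmC : m ∈ C := by
        have := C.mul_mem (C.inv_mem (hSC hs)) hc
        rwa [inv_mul_cancel_left] at this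
      have hmx : m * x = x * m := mem_cz.1 hm
      have h2 : x * (s * m) * x⁻¹ = (x * s * x⁻¹) * m := by
        calc x * (s * m) * x⁻¹ = x * s * (m * x⁻¹) := by group
          _ = x * s * (x⁻¹ * m) := by rw [(Commute.inv_right (show Commute m x from hmx)).eq]
          _ = _ := by group
      rw [h2]
      exact C.mul_mem (hSC (hSn.conj_mem s hs x)) hmC
    have h2 : x ∈ Subgroup.normalizer (C : Set G) := by
      rw [Subgroup.mem_normalizer_iff_map_conj_eq]
      apply Subgroup.eq_of_le_of_card_ge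
      · rintro _ ⟨c, hc, rfl⟩
        exact h1 c hc
      · exact (Nat.card_congr (C.equivMapOfInjective (MulAut.conj x).toMonoidHom (MulAut.conj x).injective).toEquiv).le
    have h3 : Subgroup.normalizer (C : Set G) = ⊤ := by
      rcases hCc.le_iff.1 (Subgroup.le_normalizer : C ≤ Subgroup.normalizer (C : Set G)) with h | h
      · exact h
      · rw [h] at h2
        exact absurd h2 hxC
    exact MinNormal.normal_of_normalizer_eq_top h3
  -- `x ^ q ∈ C`
  have hCx : ∀ y : G, y ∉ C → C ⊔ Subgroup.zpowers y = ⊤ := by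
    intro y hy
    rcases hCc.le_iff.1 (le_sup_left : C ≤ C ⊔ Subgroup.zpowers y) with h | h
    · exact h
    · exact absurd (h ▸ Subgroup.mem_sup_right (Subgroup.mem_zpowers y)) hy
  obtain ⟨q, hq, hxq⟩ : ∃ q : ℕ, q.Prime ∧ x ^ q ∈ C := by
    have h1 : orderOf (QuotientGroup.mk' C x) ≠ 1 := by
      intro h
      rw [orderOf_eq_one_iff] at h
      exact hxC ((QuotientGroup.eq_one_iff x).1 h)
    obtain ⟨q, hq, hqd⟩ := Nat.exists_prime_and_dvd h1
    refine ⟨q, hq, ?_⟩
    by_contra hcon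
    have h2 := hCx _ hcon
    have h3 : x ∈ C ⊔ Subgroup.zpowers (x ^ q) := by rw [h2]; exact Subgroup.mem_top x
    rw [Subgroup.mem_sup_of_normal_left] at h3
    obtain ⟨c, hc, w, hw, h4⟩ := h3
    obtain ⟨k, rfl⟩ := Subgroup.mem_zpowers_iff.1 hw
    have h5 : (QuotientGroup.mk' C x) ^ ((q : ℤ) * k - 1) = 1 := by
      have h6 : QuotientGroup.mk' C x = (QuotientGroup.mk' C x) ^ ((q : ℤ) * k) := by
        have h7 := congrArg (QuotientGroup.mk' C) h4
        rw [map_mul, map_zpow, map_pow] at h7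
        have h8 : QuotientGroup.mk' C c = 1 := (QuotientGroup.eq_one_iff c).2 hc
        rw [h8, one_mul, ← zpow_natCast, ← zpow_mul] at h7
        exact h7.symm
      rw [zpow_sub_one, ← h6, mul_inv_cancel]
    have h6 : (orderOf (QuotientGroup.mk' C x) : ℤ) ∣ (q : ℤ) * k - 1 := orderOf_dvd_iff_zpow_eq_one.2 h5
    have h7 : (q : ℤ) ∣ (q : ℤ) * k - 1 := (Int.natCast_dvd_natCast.2 hqd).trans h6
    have h8 : (q : ℤ) ∣ 1 := by
      have := dvd_sub (Dvd.intro k rfl : (q : ℤ) ∣ (q : ℤ) * k) h7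
      simpa using this
    have h9 : q ∣ 1 := by exact_mod_cast h8
    exact hq.one_lt.ne' (Nat.dvd_one.1 h9)
  -- `C ∩ M` is normal
  have hCM : (C ⊓ M) ≤ Subgroup.centralizer (X : Set G) := by
    refine hcore _ ?_ inf_le_right
    have hB : S ⊓ Subgroup.centralizer (C : Set G) ⊔ Z = S := by
      rcases hmin (S ⊓ Subgroup.centralizer (C : Set G) ⊔ Z) inferInstance le_sup_right
        (sup_le inf_le_left hZS.le) with h | h
      · exfalso
        apply hvZ
        rw [← h]
        refine Subgroup.mem_sup_left (Subgroup.mem_inf.2 ⟨hvS, ?_⟩)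
        rw [Subgroup.mem_centralizer_iff]
        intro c hc
        exact mem_cz.1 hc
      · exact h
    have h1 : S ≤ Subgroup.normalizer ((C ⊓ M : Subgroup G) : Set G) := by
      rw [← hB]
      refine sup_le ?_ ?_
      · refine inf_le_right.trans ?_
        refine (Subgroup.centralizer_le (inf_le_left : C ⊓ M ≤ C)).trans ?_
        exact Subgroup.centralizer_le_normalizer _
      · exact (le_inf (hZS.le.trans hSC) hZM).trans Subgroup.le_normalizer
    have h2 : M ≤ Subgroup.normalizer ((C ⊓ M : Subgroup G) : Set G) := by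
      intro m hm
      rw [Subgroup.mem_normalizer_iff]
      intro c
      constructor
      · rintro ⟨h3, h4⟩
        exact ⟨hCn.conj_mem c h3 m, M.mul_mem (M.mul_mem hm h4) (M.inv_mem hm)⟩
      · rintro ⟨h3, h4⟩
        have h5 : c = m⁻¹ * (m * c * m⁻¹) * m⁻¹⁻¹ := by group
        rw [h5]
        exact ⟨hCn.conj_mem _ h3 m⁻¹, M.mul_mem (M.mul_mem (M.inv_mem hm) h4) (M.inv_mem (M.inv_mem hm))⟩
    apply MinNormal.normal_of_normalizer_eq_top
    rw [eq_top_iff, ← hMS]
    exact sup_le h2 h1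
  have hxM : x ∈ M := mem_cz.2 rfl
  refine ⟨S, hSn, hZS, hSX, ⟨p, hp, hexp⟩, hScomm, ⟨q, hq, ?_⟩, hxTv, hXS, ?_, ?_⟩
  · rw [hZ]
    exact ⟨X.pow_mem hxX q, hCM ⟨hxq, M.pow_mem hxM q⟩⟩
  · rw [eq_top_iff, ← hMS]
    refine sup_le ?_ (hSX.trans le_sup_left)
    intro m hm
    have h1 : m ∈ C ⊔ Subgroup.zpowers x := by rw [hCx x hxC]; exact Subgroup.mem_top m
    rw [Subgroup.mem_sup_of_normal_left] at h1
    obtain ⟨c, hc, w, hw, rfl⟩ := h1
    have hwM : w ∈ M := (Subgroup.zpowers_le.2 hxM) hw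
    have hwX : w ∈ X := (Subgroup.zpowers_le.2 hxX) hw
    have hcM : c ∈ M := by
      have := M.mul_mem hm (M.inv_mem hwM)
      rwa [mul_inv_cancel_right] at this
    exact Subgroup.mul_mem _ (Subgroup.mem_sup_right (hCM ⟨hc, hcM⟩)) (Subgroup.mem_sup_left hwX)
  · intro w hw hwZ
    rcases hMc.le_iff.1 (le_sup_left : M ≤ M ⊔ Subgroup.zpowers w) with h | h
    · exact h
    · exfalso
      apply hwZ
      rw [← hMinf]
      exact ⟨h.le (Subgroup.mem_sup_right (Subgroup.mem_zpowers w)), hw⟩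

end Cfsg.Agent.H476.MaxCentralizer
end

-- part: H476/FrobSimple
section
/-!
A group with an abelian normal subgroup `V` and an element `x` of prime order modulo which ... acting fixed point freely
on `V` is a Frobenius group with kernel `V` and complement `⟨x⟩`.
-/

set_option autoImplicit false

namespace Cfsg.Agent.H476.FrobSimple

open Cfsg Pointwise

theorem frobenius_of_fpf {H : Type*} [Group H] [Finite H] (V : Subgroup H) [hVn : V.Normal] (x : H) (q : ℕ)
    (hq : q.Prime) (hxq : x ^ q = 1) (hV1 : V ≠ ⊥) (hsup : V ⊔ Subgroup.zpowers x = ⊤)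
    (hfix : ∀ v ∈ V, v * x = x * v → v = 1) :
    IsFrobeniusComplement (Subgroup.zpowers x) ∧ Nat.card (Subgroup.zpowers x) = q ∧
      (V : Set H) = frobeniusKernel (Subgroup.zpowers x) := by
  classical
  haveI : Fact q.Prime := ⟨hq⟩
  obtain ⟨v₀, hv₀, hv₀1⟩ : ∃ v ∈ V, v ≠ 1 := by
    obtain ⟨a, ha⟩ := Subgroup.ne_bot_iff_exists_ne_one.1 hV1
    exact ⟨a, a.2, fun h => ha (Subtype.ext h)⟩
  have hx1 : x ≠ 1 := by
    rintro rfl
    exact hv₀1 (hfix v₀ hv₀ (by rw [mul_one, one_mul]))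
  have hox : orderOf x = q := orderOf_eq_prime hxq hx1
  set Q : Subgroup H := Subgroup.zpowers x with hQ
  have hQc : Nat.card Q = q := by rw [hQ, Nat.card_zpowers, hox]
  have hxQ : x ∈ Q := Subgroup.mem_zpowers x
  -- elements of `Q` commute with `x`
  have hQx : ∀ w ∈ Q, w * x = x * w := by
    intro w hw
    obtain ⟨k, rfl⟩ := Subgroup.mem_zpowers_iff.1 hw
    exact (Commute.zpow_left (Commute.refl x) k).eq
  have hVQ : ∀ w, w ∈ V → w ∈ Q → w = 1 := fun w hwV hwQ => hfix w hwV (hQx w hwQ)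
  -- nontrivial elements of `Q` generate `Q`
  have hgen : ∀ w ∈ Q, w ≠ 1 → Subgroup.zpowers w = Q := by
    intro w hw hw1
    apply Subgroup.eq_of_le_of_card_ge (Subgroup.zpowers_le.2 hw)
    rw [hQc, Nat.card_zpowers]
    have h1 : orderOf w ∣ q := by rw [← hQc]; exact Subgroup.orderOf_dvd_natCard _ hw
    rcases (Nat.dvd_prime hq).1 h1 with h2 | h2
    · exact absurd (orderOf_eq_one_iff.1 h2) hw1
    · exact h2.ge
  have hdec : ∀ g : H, ∃ v ∈ V, ∃ w ∈ Q, g = v * w := by
    intro g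
    have hg : g ∈ V ⊔ Q := by rw [hsup]; exact Subgroup.mem_top g
    rw [Subgroup.mem_sup_of_normal_left] at hg
    obtain ⟨s, hs, m, hm, h⟩ := hg
    exact ⟨s, hs, m, hm, h.symm⟩
  have hmemconj : ∀ g y : H, y ∈ MulAut.conj g • Q ↔ g⁻¹ * y * g ∈ Q := by
    intro g y
    rw [Subgroup.mem_pointwise_smul_iff_inv_smul_mem, ← map_inv, MulAut.smul_def, MulAut.conj_apply, inv_inv]
  refine ⟨⟨?_, ?_, ?_⟩, hQc, ?_⟩
  · intro h
    rw [h, Subgroup.card_bot] at hQc
    exact hq.one_lt.ne hQc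
  · intro h
    exact hv₀1 (hVQ v₀ hv₀ (h ▸ Subgroup.mem_top _))
  · intro g hg
    rw [eq_bot_iff]
    intro w hw
    obtain ⟨hwQ, hwQ'⟩ := Subgroup.mem_inf.1 hw
    rw [hmemconj] at hwQ'
    rw [Subgroup.mem_bot]
    by_contra hw1
    apply hg
    -- `g⁻¹ * x * g ∈ Q`
    have h1 : g⁻¹ * x * g ∈ Q := by
      have h2 : x ∈ Subgroup.zpowers w := by rw [hgen w hwQ hw1]; exact hxQ
      obtain ⟨k, hk⟩ := Subgroup.mem_zpowers_iff.1 h2
      rw [← hk]
      have h3 : g⁻¹ * w ^ k * g = (g⁻¹ * w * g) ^ k := by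
        have := conj_zpow (i := k) (a := g⁻¹) (b := w)
        rw [inv_inv] at this
        exact this.symm
      rw [h3]
      exact Q.zpow_mem hwQ' k
    obtain ⟨v, hv, u, hu, rfl⟩ := hdec g
    -- `v⁻¹ x v ∈ Q`
    have h2 : v⁻¹ * x * v ∈ Q := by
      have h3 := Q.mul_mem (Q.mul_mem hu h1) (Q.inv_mem hu)
      have h4 : u * ((v * u)⁻¹ * x * (v * u)) * u⁻¹ = v⁻¹ * x * v := by group
      rwa [h4] at h3
    have h3 : v⁻¹ * x * v * x⁻¹ = 1 := by
      apply hVQ
      · have h4 : v⁻¹ * x * v * x⁻¹ = v⁻¹ * (x * v * x⁻¹) := by group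
        rw [h4]
        exact V.mul_mem (V.inv_mem hv) (hVn.conj_mem v hv x)
      · exact Q.mul_mem h2 (Q.inv_mem hxQ)
    have h4 : v = 1 := by
      apply hfix v hv
      rw [mul_inv_eq_one, mul_assoc, inv_mul_eq_iff_eq_mul] at h3
      exact h3.symm
    rw [h4, one_mul]
    exact hu
  · ext h
    constructor
    · intro hh
      by_cases h1 : h = 1
      · exact Or.inl h1
      · right
        intro g hg
        rw [hmemconj] at hg
        have h2 : g⁻¹ * h * g ∈ V := by
          have := hVn.conj_mem h hh g⁻¹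
          rwa [inv_inv] at this
        have h3 := hVQ _ h2 hg
        apply h1
        have h4 : h = g * (g⁻¹ * h * g) * g⁻¹ := by group
        rw [h4, h3]
        group
    · rintro (h1 | h1)
      · rw [h1]; exact V.one_mem
      · by_contra hhV
        obtain ⟨v, hv, w, hw, rfl⟩ := hdec h
        have hw1 : w ≠ 1 := by
          rintro rfl
          rw [mul_one] at hhV
          exact hhV hv
        -- the map `u ↦ u w u⁻¹ w⁻¹` is a bijection of `V`
        let φ : V → V := fun u => ⟨(u : H) * (w * (u : H)⁻¹ * w⁻¹),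
          V.mul_mem u.2 (hVn.conj_mem _ (V.inv_mem u.2) w)⟩
        have hφ : Function.Injective φ := by
          intro a b hab
          have h2 : (a : H) * (w * (a : H)⁻¹ * w⁻¹) = (b : H) * (w * (b : H)⁻¹ * w⁻¹) := congrArg Subtype.val hab
          have h3 : ((b : H)⁻¹ * a) * w = w * ((b : H)⁻¹ * a) := by
            have h4 : (b : H)⁻¹ * ((a : H) * (w * (a : H)⁻¹ * w⁻¹)) * (w * a) =
              (b : H)⁻¹ * ((b : H) * (w * (b : H)⁻¹ * w⁻¹)) * (w * a) := by rw [h2]
            have h5 : (b : H)⁻¹ * ((a : H) * (w * (a : H)⁻¹ * w⁻¹)) * (w * a) = ((b : H)⁻¹ * a) * w := by group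
            have h6 : (b : H)⁻¹ * ((b : H) * (w * (b : H)⁻¹ * w⁻¹)) * (w * a) = w * ((b : H)⁻¹ * a) := by group
            rw [h5, h6] at h4
            exact h4
          have h4 : ((b : H)⁻¹ * a) * x = x * ((b : H)⁻¹ * a) := by
            have h5 : x ∈ Subgroup.zpowers w := by rw [hgen w hw hw1]; exact hxQ
            obtain ⟨k, hk⟩ := Subgroup.mem_zpowers_iff.1 h5
            rw [← hk]
            exact (Commute.zpow_right (show Commute ((b : H)⁻¹ * a) w from h3) k).eq
          have h5 := hfix _ (V.mul_mem (V.inv_mem b.2) a.2) h4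
          rw [inv_mul_eq_one] at h5
          exact Subtype.ext h5.symm
        obtain ⟨u, hu⟩ := (Finite.injective_iff_surjective.1 hφ) ⟨v, hv⟩
        have h2 : (u : H) * (w * (u : H)⁻¹ * w⁻¹) = v := congrArg Subtype.val hu
        apply h1 (u : H)
        rw [hmemconj, ← h2]
        have h3 : (u : H)⁻¹ * ((u : H) * (w * (u : H)⁻¹ * w⁻¹) * w) * u = w := by group
        rw [h3]
        exact hw

end Cfsg.Agent.H476.FrobSimple
end

-- part: H476/MaxCentMain
section
/-!
Normal subgroups `N` of a finite group `G` such that `C_G(x)` is maximal for all `x ∈ N ∖ Z(N)`.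
-/

set_option autoImplicit false

namespace Cfsg.Agent.H476.MaxCentralizer

open Cfsg

variable {G : Type*} [Group G]

/-- The abelian case, first step: `N` is nilpotent. -/
theorem isNilpotent_of_abelian_closures [Finite G] (N : Subgroup G) [hNn : N.Normal]
    (hab : ∀ x ∈ N, x ∈ Subgroup.centralizer ((Subgroup.normalClosure {x} : Subgroup G) : Set G) ∨
      x ∈ Subgroup.centralizer (N : Set G)) : Group.IsNilpotent N := by
  classical
  refine ((Group.isNilpotent_of_finite_tfae (G := N)).out 0 3).2 ?_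
  intro p hp P
  constructor
  intro y hy g
  -- commuting family of conjugates
  set Y : Subgroup N := Subgroup.normalClosure {y} with hY
  have hYn : Y.Normal := Subgroup.normalClosure_normal
  have hyY : y ∈ Y := Subgroup.subset_normalClosure (Set.mem_singleton y)
  obtain ⟨k, hk⟩ := P.isPGroup' ⟨y, hy⟩
  have hyk : y ^ p ^ k = 1 := congrArg Subtype.val hk
  -- conjugates of `y` commute
  have hcomm : ∀ a b : N, (a * y * a⁻¹) * (b * y * b⁻¹) = (b * y * b⁻¹) * (a * y * a⁻¹) := by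
    intro a b
    have h0 : ∀ c : N, y * (c * y * c⁻¹) = (c * y * c⁻¹) * y := by
      intro c
      rcases hab (y : G) y.2 with h | h
      · rw [Subgroup.mem_centralizer_iff] at h
        have h1 : (c : G) * y * (c : G)⁻¹ ∈ (Subgroup.normalClosure {(y : G)} : Subgroup G) :=
          Subgroup.normalClosure_normal.conj_mem _ (Subgroup.subset_normalClosure (Set.mem_singleton _)) _
        exact Subtype.ext (h _ h1).symm
      · rw [Subgroup.mem_centralizer_iff] at h
        have h1 : (c : G) * y * (c : G)⁻¹ ∈ N := hNn.conj_mem _ y.2 _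
        exact Subtype.ext (h _ h1).symm
    have h1 := h0 (a⁻¹ * b)
    have h2 : a * (y * ((a⁻¹ * b) * y * (a⁻¹ * b)⁻¹)) * a⁻¹ = (a * y * a⁻¹) * (b * y * b⁻¹) := by group
    have h3 : a * (((a⁻¹ * b) * y * (a⁻¹ * b)⁻¹) * y) * a⁻¹ = (b * y * b⁻¹) * (a * y * a⁻¹) := by group
    rw [← h2, ← h3, h1]
  have hYc : ∀ u ∈ Y, ∀ v ∈ Y, u * v = v * u := by
    have h1 : ∀ u ∈ Y, ∀ a : N, u * (a * y * a⁻¹) = (a * y * a⁻¹) * u := by
      intro u hu a
      have h2 : Y ≤ Subgroup.centralizer ({a * y * a⁻¹} : Set N) := by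
        rw [hY, Subgroup.normalClosure, Subgroup.closure_le]
        intro z hz
        rw [Group.mem_conjugatesOfSet_iff] at hz
        obtain ⟨w, hw, hz⟩ := hz
        rw [Set.mem_singleton_iff] at hw
        subst hw
        obtain ⟨b, rfl⟩ := isConj_iff.1 hz
        exact mem_cz.2 (hcomm b a)
      exact mem_cz.1 (h2 hu)
    intro u hu v hv
    have h2 : Y ≤ Subgroup.centralizer ({u} : Set N) := by
      have hY' : Y = Subgroup.closure (Group.conjugatesOfSet {y}) := hY
      rw [hY', Subgroup.closure_le]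
      intro z hz
      rw [Group.mem_conjugatesOfSet_iff] at hz
      obtain ⟨w, hw, hz⟩ := hz
      rw [Set.mem_singleton_iff] at hw
      subst hw
      obtain ⟨b, rfl⟩ := isConj_iff.1 hz
      exact mem_cz.2 (h1 u hu b).symm
    exact (mem_cz.1 (h2 hv)).symm
  -- `Y` has exponent dividing `p ^ k`
  have hYexp : ∀ u ∈ Y, u ^ p ^ k = 1 := by
    intro u hu
    rw [hY, Subgroup.normalClosure] at hu
    induction hu using Subgroup.closure_induction with
    | mem z hz =>
      rw [Group.mem_conjugatesOfSet_iff] at hz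
      obtain ⟨w, hw, hz⟩ := hz
      rw [Set.mem_singleton_iff] at hw
      subst hw
      obtain ⟨b, rfl⟩ := isConj_iff.1 hz
      rw [conj_pow, hyk]; group
    | one => exact one_pow _
    | mul a b ha hb iha ihb =>
      rw [(show Commute a b from hYc a ha b hb).mul_pow, iha, ihb, one_mul]
    | inv a ha iha => rw [inv_pow, iha, inv_one]
  have hYp : IsPGroup p Y := fun u => ⟨k, Subtype.ext (hYexp u u.2)⟩
  have hsup : IsPGroup p ((P : Subgroup N) ⊔ Y : Subgroup N) := P.isPGroup'.to_sup_of_normal_right hYp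
  have h1 : (P : Subgroup N) ⊔ Y = P := P.is_maximal' hsup le_sup_left
  exact h1.le (Subgroup.mem_sup_right (hYn.conj_mem y hyY g))

/-- The abelian case. -/
theorem abelian_case [Finite G] (N : Subgroup G) [hNn : N.Normal]
    (h : ∀ x : G, x ∈ N → x ∉ Subgroup.centralizer (N : Set G) → IsCoatom (Subgroup.centralizer ({x} : Set G)))
    (hab : ∀ x ∈ N, x ∈ Subgroup.centralizer ((Subgroup.normalClosure {x} : Subgroup G) : Set G) ∨
      x ∈ Subgroup.centralizer (N : Set G)) :
    ∃ p : ℕ, p.Prime ∧ (∀ x ∈ N, x ^ p ∈ Subgroup.centralizer (N : Set G)) ∧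
      ⁅N, N⁆ ≤ Subgroup.centralizer (N : Set G) := by
  classical
  have hnil := isNilpotent_of_abelian_closures N hab
  have hcomm : ⁅N, N⁆ ≤ Subgroup.centralizer (N : Set G) := by
    intro z hz
    rw [Subgroup.mem_centralizer_iff]
    intro x hx
    by_cases hxc : x ∈ Subgroup.centralizer (N : Set G)
    · rw [Subgroup.mem_centralizer_iff] at hxc
      exact (hxc z (Subgroup.commutator_le_left N N hz)).symm
    · have h1 := (SolvableStructure.AbelianSocle.commutator_le_frattini N).trans (frattini_le_coatom (h x hx hxc))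
      exact (mem_cz.1 (h1 hz)).symm
  have hcz : ∀ a ∈ N, ∀ b ∈ N, ∀ c ∈ N, (a * b * a⁻¹ * b⁻¹) * c = c * (a * b * a⁻¹ * b⁻¹) := by
    intro a ha b hb c hc
    exact ((Subgroup.mem_centralizer_iff.1 (hcomm (Subgroup.commutator_mem_commutator ha hb))) c hc).symm
  -- powers of commutators
  have hmul1 : ∀ x ∈ N, ∀ a ∈ N, ∀ b ∈ N,
      x * (a * b) * x⁻¹ * (a * b)⁻¹ = (x * a * x⁻¹ * a⁻¹) * (x * b * x⁻¹ * b⁻¹) := by
    intro x hx a ha b hb
    have h1 := hcz x hx b hb a⁻¹ (N.inv_mem ha)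
    calc x * (a * b) * x⁻¹ * (a * b)⁻¹ = (x * a * x⁻¹) * ((x * b * x⁻¹ * b⁻¹) * a⁻¹) := by group
      _ = (x * a * x⁻¹) * (a⁻¹ * (x * b * x⁻¹ * b⁻¹)) := by rw [h1]
      _ = _ := by group
  have hmul2 : ∀ x ∈ N, ∀ y ∈ N, ∀ a ∈ N,
      (x * y) * a * (x * y)⁻¹ * a⁻¹ = (x * a * x⁻¹ * a⁻¹) * (y * a * y⁻¹ * a⁻¹) := by
    intro x hx y hy a ha
    have h1 := hcz y hy a ha (a * x⁻¹ * a⁻¹) (N.mul_mem (N.mul_mem ha (N.inv_mem hx)) (N.inv_mem ha))
    calc (x * y) * a * (x * y)⁻¹ * a⁻¹ = x * ((y * a * y⁻¹ * a⁻¹) * (a * x⁻¹ * a⁻¹)) := by group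
      _ = x * ((a * x⁻¹ * a⁻¹) * (y * a * y⁻¹ * a⁻¹)) := by rw [h1]
      _ = _ := by group
  have hpow1 : ∀ x ∈ N, ∀ a ∈ N, ∀ n : ℕ, x * a ^ n * x⁻¹ * (a ^ n)⁻¹ = (x * a * x⁻¹ * a⁻¹) ^ n := by
    intro x hx a ha n
    induction n with
    | zero => simp
    | succ n ih => rw [pow_succ, hmul1 x hx _ (N.pow_mem ha n) a ha, ih, pow_succ]
  have hpow2 : ∀ x ∈ N, ∀ a ∈ N, ∀ n : ℕ, x ^ n * a * (x ^ n)⁻¹ * a⁻¹ = (x * a * x⁻¹ * a⁻¹) ^ n := by
    intro x hx a ha n
    induction n with
    | zero => simp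
    | succ n ih => rw [pow_succ, hmul2 _ (N.pow_mem hx n) x hx a ha, ih, pow_succ]
  -- every noncentral element has prime order modulo the center
  have hprime : ∀ x ∈ N, x ∉ Subgroup.centralizer (N : Set G) →
      ∃ p : ℕ, p.Prime ∧ x ^ p ∈ Subgroup.centralizer (N : Set G) := by
    intro x hx hxc
    have hM := h x hx hxc
    set M : Subgroup G := Subgroup.centralizer ({x} : Set G) with hMdef
    obtain ⟨n, hn, hnx⟩ : ∃ n ∈ N, n * x ≠ x * n := by
      by_contra hcon
      push Not at hcon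
      exact hxc (Subgroup.mem_centralizer_iff.2 hcon)
    have hne : x * n * x⁻¹ * n⁻¹ ≠ 1 := by
      intro h1
      apply hnx
      rw [mul_inv_eq_one, mul_inv_eq_iff_eq_mul] at h1
      exact h1.symm
    obtain ⟨p, hp, hpd⟩ := Nat.exists_prime_and_dvd (n := orderOf (x * n * x⁻¹ * n⁻¹))
      (fun h1 => hne (orderOf_eq_one_iff.1 h1))
    obtain ⟨m, hm⟩ := hpd
    refine ⟨p, hp, ?_⟩
    have hm0 : 0 < m := by
      rcases Nat.eq_zero_or_pos m with h1 | h1
      · rw [h1, mul_zero] at hm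
        exact absurd hm (orderOf_pos _).ne'
      · exact h1
    set n' := n ^ m with hn'
    have hn'N : n' ∈ N := N.pow_mem hn m
    have hn'1 : x * n' * x⁻¹ * n'⁻¹ ≠ 1 := by
      rw [hn', hpow1 x hx n hn m]
      intro h1
      have h2 := orderOf_dvd_of_pow_eq_one h1
      rw [hm] at h2
      have h3 := Nat.le_of_dvd hm0 h2
      have h4 := hp.one_lt
      nlinarith
    have hn'p : (x * n' * x⁻¹ * n'⁻¹) ^ p = 1 := by
      rw [hn', hpow1 x hx n hn m, ← pow_mul, mul_comm m p, ← hm, pow_orderOf_eq_one]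
    have hcc : ∀ a ∈ N, ∀ b ∈ N, Commute (x * a * x⁻¹ * a⁻¹) (x * b * x⁻¹ * b⁻¹) := by
      intro a ha b hb
      exact hcz x hx a ha _ (N.mul_mem (N.mul_mem (N.mul_mem hx hb) (N.inv_mem hx)) (N.inv_mem hb))
    let T : Subgroup G :=
      { carrier := {a | a ∈ N ∧ (x * a * x⁻¹ * a⁻¹) ^ p = 1}
        one_mem' := ⟨N.one_mem, by simp⟩
        mul_mem' := by
          rintro a b ⟨ha, ha'⟩ ⟨hb, hb'⟩
          refine ⟨N.mul_mem ha hb, ?_⟩
          rw [hmul1 x hx a ha b hb, (hcc a ha b hb).mul_pow, ha', hb', one_mul]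
        inv_mem' := by
          rintro a ⟨ha, ha'⟩
          refine ⟨N.inv_mem ha, ?_⟩
          have h1 := hmul1 x hx a ha a⁻¹ (N.inv_mem ha)
          have h2 : x * (a * a⁻¹) * x⁻¹ * (a * a⁻¹)⁻¹ = 1 := by group
          rw [h2] at h1
          have h3 : x * a⁻¹ * x⁻¹ * a⁻¹⁻¹ = (x * a * x⁻¹ * a⁻¹)⁻¹ := (inv_eq_of_mul_eq_one_right h1.symm).symm
          rw [h3, inv_pow, ha', inv_one] }
    have hTmem : ∀ a, a ∈ T ↔ a ∈ N ∧ (x * a * x⁻¹ * a⁻¹) ^ p = 1 := fun a => Iff.rfl
    -- `M` normalizes `T`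
    have hMT : ∀ m ∈ M, ∀ a ∈ T, m * a * m⁻¹ ∈ T := by
      rintro m hm a ⟨ha, ha'⟩
      refine ⟨hNn.conj_mem a ha m, ?_⟩
      have h1 : m * x = x * m := mem_cz.1 hm
      have h1' : m⁻¹ * x = x * m⁻¹ := (Commute.inv_left (show Commute m x from h1)).eq
      have h2 : x * (m * a * m⁻¹) * x⁻¹ * (m * a * m⁻¹)⁻¹ = m * (x * a * x⁻¹ * a⁻¹) * m⁻¹ := by
        have h3 : m⁻¹ * x⁻¹ = x⁻¹ * m⁻¹ := by rw [← mul_inv_rev, ← mul_inv_rev, h1]
        calc x * (m * a * m⁻¹) * x⁻¹ * (m * a * m⁻¹)⁻¹ = (x * m) * a * (m⁻¹ * x⁻¹) * m * a⁻¹ * m⁻¹ := by group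
          _ = (m * x) * a * (x⁻¹ * m⁻¹) * m * a⁻¹ * m⁻¹ := by rw [h1, h3]
          _ = _ := by group
      rw [h2, conj_pow, ha', mul_one, mul_inv_cancel]
    have hTN : ∀ a ∈ N, ∀ b ∈ T, a * b * a⁻¹ ∈ T := by
      rintro a ha b ⟨hb, hb'⟩
      have h1 : a * b * a⁻¹ * b⁻¹ ∈ Subgroup.centralizer (N : Set G) :=
        hcomm (Subgroup.commutator_mem_commutator ha hb)
      have h2 : a * b * a⁻¹ * b⁻¹ ∈ T := by
        refine ⟨N.mul_mem (N.mul_mem (N.mul_mem ha hb) (N.inv_mem ha)) (N.inv_mem hb), ?_⟩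
        have h3 := Subgroup.mem_centralizer_iff.1 h1 x hx
        rw [h3]
        have h4 : a * b * a⁻¹ * b⁻¹ * x * x⁻¹ * (a * b * a⁻¹ * b⁻¹)⁻¹ = 1 := by group
        rw [h4, one_pow]
      have h3 := T.mul_mem h2 (show b ∈ T from ⟨hb, hb'⟩)
      have h4 : a * b * a⁻¹ * b⁻¹ * b = a * b * a⁻¹ := by group
      rwa [h4] at h3
    have hMTle : M ≤ Subgroup.normalizer (T : Set G) := by
      intro m hm
      rw [Subgroup.mem_normalizer_iff]
      intro a
      refine ⟨fun ha => hMT m hm a ha, fun ha => ?_⟩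
      have h1 := hMT m⁻¹ (M.inv_mem hm) _ ha
      have h2 : m⁻¹ * (m * a * m⁻¹) * m⁻¹⁻¹ = a := by group
      rwa [h2] at h1
    have hn'T : n' ∈ T := ⟨hn'N, hn'p⟩
    have hn'M : n' ∉ M := by
      intro h1
      apply hn'1
      have h2 : n' * x = x * n' := mem_cz.1 h1
      rw [← h2]; group
    have hsup : T ⊔ M = ⊤ := by
      rw [sup_comm]
      rcases hM.le_iff.1 (le_sup_left : M ≤ M ⊔ T) with h1 | h1
      · exact h1
      · exact absurd (h1.le (Subgroup.mem_sup_right hn'T)) hn'M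
    have hTn : T.Normal := by
      apply MinNormal.normal_of_normalizer_eq_top
      rw [eq_top_iff, ← hsup]
      exact sup_le Subgroup.le_normalizer hMTle
    have hNT : N ≤ T := by
      intro a ha
      have h1 : a ∈ T ⊔ M := by rw [hsup]; exact Subgroup.mem_top a
      rw [Subgroup.mem_sup_of_normal_left] at h1
      obtain ⟨t, ht, m, hm, rfl⟩ := h1
      refine T.mul_mem ht ?_
      have hmN : m ∈ N := by
        have := N.mul_mem (N.inv_mem ht.1) ha
        rwa [inv_mul_cancel_left] at this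
      refine ⟨hmN, ?_⟩
      have h2 : m * x = x * m := mem_cz.1 hm
      rw [← h2, mul_inv_cancel_right, mul_inv_cancel, one_pow]
    rw [Subgroup.mem_centralizer_iff]
    intro a ha
    have h1 := hpow2 x hx a ha p
    rw [(hNT ha).2, mul_inv_eq_one, mul_inv_eq_iff_eq_mul] at h1
    exact h1.symm
  have hprime' : ∀ x ∈ N, ∃ p : ℕ, p.Prime ∧ x ^ p ∈ Subgroup.centralizer (N : Set G) := by
    intro x hx
    by_cases hxc : x ∈ Subgroup.centralizer (N : Set G)
    · exact ⟨2, Nat.prime_two, Subgroup.pow_mem _ hxc 2⟩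
    · exact hprime x hx hxc
  by_cases hall : ∀ x ∈ N, x ∈ Subgroup.centralizer (N : Set G)
  · exact ⟨2, Nat.prime_two, fun x hx => Subgroup.pow_mem _ (hall x hx) 2, hcomm⟩
  push Not at hall
  obtain ⟨x, hx, hxc⟩ := hall
  obtain ⟨p, hp, hxp⟩ := hprime x hx hxc
  refine ⟨p, hp, ?_, hcomm⟩
  intro y hy
  by_cases hyc : y ∈ Subgroup.centralizer (N : Set G)
  · exact Subgroup.pow_mem _ hyc p
  obtain ⟨q, hq, hyq⟩ := hprime y hy hyc
  by_cases hpq : q = p
  · rw [← hpq]; exact hyq
  exfalso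
  set f := QuotientGroup.mk' (Subgroup.centralizer (N : Set G)) with hf
  have hker : ∀ g : G, f g = 1 ↔ g ∈ Subgroup.centralizer (N : Set G) := fun g => QuotientGroup.eq_one_iff g
  haveI : Fact p.Prime := ⟨hp⟩
  haveI : Fact q.Prime := ⟨hq⟩
  have h1 : orderOf (f x) = p := orderOf_eq_prime (by rw [← map_pow]; exact (hker _).2 hxp)
    (fun h => hxc ((hker x).1 h))
  have h2 : orderOf (f y) = q := orderOf_eq_prime (by rw [← map_pow]; exact (hker _).2 hyq)
    (fun h => hyc ((hker y).1 h))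
  have h3 : Commute (f x) (f y) := by
    have h4 : f (x * y * x⁻¹ * y⁻¹) = 1 := (hker _).2 (hcomm (Subgroup.commutator_mem_commutator hx hy))
    rw [map_mul, map_mul, map_mul, map_inv, map_inv, mul_inv_eq_one, mul_inv_eq_iff_eq_mul] at h4
    exact h4
  have h4 := h3.orderOf_mul_eq_mul_orderOf_of_coprime (by
    rw [h1, h2]; exact (Nat.coprime_primes hp hq).2 (fun h => hpq h.symm))
  obtain ⟨r, hr, hr'⟩ := hprime' (x * y) (N.mul_mem hx hy)
  have h5 : orderOf (f x * f y) ∣ r := by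
    apply orderOf_dvd_of_pow_eq_one
    rw [← map_mul, ← map_pow]
    exact (hker _).2 hr'
  rw [h4, h1, h2] at h5
  have h6 : p = r := (Nat.prime_dvd_prime_iff_eq hp hr).1 ((Dvd.intro _ rfl).trans h5)
  have h7 : q = r := (Nat.prime_dvd_prime_iff_eq hq hr).1 ((Dvd.intro_left _ rfl).trans h5)
  exact hpq (h7.trans h6.symm)

end Cfsg.Agent.H476.MaxCentralizer
end

-- part: H476/MaxCentFrob
section
/-!
Normal subgroups `N` of a finite group `G` such that `C_G(x)` is maximal for all `x ∈ N ∖ Z(N)`: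
the case of a nonabelian normal closure `⟨x^G⟩`.
-/

set_option autoImplicit false

namespace Cfsg.Agent.H476.MaxCentralizer

open Cfsg

variable {G : Type*} [Group G]

/-- The nonabelian case. -/
theorem nonabelian_case [Finite G] (N : Subgroup G) [hNn : N.Normal]
    (h : ∀ x : G, x ∈ N → x ∉ Subgroup.centralizer (N : Set G) → IsCoatom (Subgroup.centralizer ({x} : Set G)))
    (x : G) (hx : x ∈ N)
    (hxc : x ∉ Subgroup.centralizer ((Subgroup.normalClosure {x} : Subgroup G) : Set G)) :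
    ∃ S : Subgroup G, S.Normal ∧ S ≤ N ∧ ¬ S ≤ Subgroup.centralizer (N : Set G) ∧
      (∃ p : ℕ, p.Prime ∧ ∀ s ∈ S, s ^ p ∈ Subgroup.centralizer (N : Set G)) ∧
      (∀ s ∈ S, ∀ t ∈ S, s * t = t * s) ∧
      (∃ q : ℕ, q.Prime ∧ x ^ q ∈ Subgroup.centralizer (N : Set G)) ∧
      (∀ s ∈ S, s * x * s⁻¹ * x⁻¹ ∈ Subgroup.centralizer (N : Set G) →
        s ∈ Subgroup.centralizer (N : Set G)) ∧
      (∀ n ∈ N, ∃ s ∈ S, ∃ w ∈ Subgroup.zpowers x, ∃ z ∈ Subgroup.centralizer (N : Set G), n = s * w * z) := by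
  classical
  set X : Subgroup G := Subgroup.normalClosure {x} with hX
  set Z : Subgroup G := X ⊓ Subgroup.centralizer (X : Set G) with hZ
  have hXn : X.Normal := Subgroup.normalClosure_normal
  have hXN : X ≤ N := Subgroup.normalClosure_le_normal (Set.singleton_subset_iff.2 hx)
  have hxX : x ∈ X := Subgroup.subset_normalClosure (Set.mem_singleton x)
  have hxZ : x ∉ Z := fun h1 => hxc (Subgroup.mem_inf.1 h1).2
  have hcent : Subgroup.centralizer (N : Set G) ≤ Subgroup.centralizer (X : Set G) :=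
    Subgroup.centralizer_le hXN
  have hcoat : ∀ v ∈ X, v ∉ Z → IsCoatom (Subgroup.centralizer ({v} : Set G)) := by
    intro v hv hvZ
    exact h v (hXN hv) (fun h1 => hvZ (Subgroup.mem_inf.2 ⟨hv, hcent h1⟩))
  obtain ⟨S, hSn, hZS, hSX, ⟨p, hp, hexp⟩, hScomm, ⟨q, hq, hxq⟩, hfix, hXS, htop, -⟩ :=
    structure_normalClosure x X Z hX hZ hxZ hcoat
  obtain ⟨s₀, hs₀, hs₀Z⟩ := SetLike.exists_of_lt hZS
  have hs₀x : s₀ * x ≠ x * s₀ := by
    intro h1
    apply hs₀Z
    apply hfix s₀ hs₀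
    rw [h1]
    have : x * s₀ * s₀⁻¹ * x⁻¹ = 1 := by group
    rw [this]; exact Z.one_mem
  have hZc : ∀ v ∈ X, ∀ z ∈ Z, z * v = v * z := by
    intro v hv z hz
    exact (Subgroup.mem_centralizer_iff.1 (Subgroup.mem_inf.1 hz).2 v hv).symm
  -- `N ∩ C(X) ≤ C(N)`
  have hCN : ∀ y ∈ N, y ∈ Subgroup.centralizer (X : Set G) → y ∈ Subgroup.centralizer (N : Set G) := by
    intro y hy hyX
    by_contra hyc
    have hyM := h y hy hyc
    have hXy : X ≤ Subgroup.centralizer ({y} : Set G) := by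
      intro a ha
      exact mem_cz.2 (Subgroup.mem_centralizer_iff.1 hyX a ha)
    have hxy : x * y = y * x := Subgroup.mem_centralizer_iff.1 hyX x hxX
    have hs₀y : s₀ * y = y * s₀ := Subgroup.mem_centralizer_iff.1 hyX s₀ (hSX hs₀)
    have hxyc : x * y ∉ Subgroup.centralizer (N : Set G) := by
      intro h1
      have h2 := Subgroup.mem_centralizer_iff.1 h1 s₀ (hXN (hSX hs₀))
      apply hs₀x
      have h3 : (s₀ * x) * y = (x * s₀) * y := by
        calc (s₀ * x) * y = s₀ * (x * y) := by group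
          _ = (x * y) * s₀ := h2
          _ = x * (y * s₀) := by group
          _ = x * (s₀ * y) := by rw [hs₀y]
          _ = (x * s₀) * y := by group
      exact mul_right_cancel h3
    have hxyM := h (x * y) (N.mul_mem hx hy) hxyc
    have hle : Subgroup.centralizer ({x * y} : Set G) ≤ Subgroup.centralizer ({x} : Set G) := by
      intro g hg
      have hg1 : g * (x * y) = (x * y) * g := mem_cz.1 hg
      have hg2 : g ∈ X ⊔ Subgroup.centralizer (X : Set G) := by rw [htop]; exact Subgroup.mem_top g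
      rw [Subgroup.mem_sup_of_normal_left] at hg2
      obtain ⟨a, ha, k, hk, rfl⟩ := hg2
      have hkx : k * x = x * k := (Subgroup.mem_centralizer_iff.1 hk x hxX).symm
      -- `x⁻¹ a x a⁻¹ ∈ Z`
      have h1 : x⁻¹ * (a * x * a⁻¹) = y * ((a * k) * y * (a * k)⁻¹)⁻¹ := by
        have h2 : (a * x * a⁻¹) * ((a * k) * y * (a * k)⁻¹) = x * y := by
          calc (a * x * a⁻¹) * ((a * k) * y * (a * k)⁻¹) = a * (x * k) * y * (a * k)⁻¹ := by group
            _ = a * (k * x) * y * (a * k)⁻¹ := by rw [hkx]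
            _ = (a * k) * (x * y) * (a * k)⁻¹ := by group
            _ = (x * y) * (a * k) * (a * k)⁻¹ := by rw [hg1]
            _ = x * y := by group
        have h3 : a * x * a⁻¹ = x * y * ((a * k) * y * (a * k)⁻¹)⁻¹ := by
          rw [← h2]; group
        rw [h3]; group
      have h2 : x⁻¹ * (a * x * a⁻¹) ∈ Z := by
        refine Subgroup.mem_inf.2 ⟨X.mul_mem (X.inv_mem hxX) (hXn.conj_mem x hxX a), ?_⟩
        rw [h1]
        have h3 : (Subgroup.centralizer (X : Set G)).Normal := inferInstance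
        exact Subgroup.mul_mem _ hyX (Subgroup.inv_mem _ (h3.conj_mem y hyX _))
      -- write `a = s w`
      have h3 : a ∈ S ⊔ Subgroup.zpowers x := hXS ha
      rw [Subgroup.mem_sup_of_normal_left] at h3
      obtain ⟨s, hs, w, hw, rfl⟩ := h3
      have hwx : w * x = x * w := by
        obtain ⟨k, rfl⟩ := Subgroup.mem_zpowers_iff.1 hw
        exact (Commute.zpow_left (Commute.refl x) k).eq
      have h4 : x⁻¹ * (s * w * x * (s * w)⁻¹) = x⁻¹ * s * x * s⁻¹ := by
        calc x⁻¹ * (s * w * x * (s * w)⁻¹) = x⁻¹ * s * (w * x) * w⁻¹ * s⁻¹ := by group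
          _ = x⁻¹ * s * (x * w) * w⁻¹ * s⁻¹ := by rw [hwx]
          _ = _ := by group
      rw [h4] at h2
      have h5 : s * x * s⁻¹ * x⁻¹ ∈ Z := by
        have h6 : Z.Normal := inferInstance
        have h7 := h6.conj_mem _ h2 x
        have h8 : x * (x⁻¹ * s * x * s⁻¹) * x⁻¹ = s * x * s⁻¹ * x⁻¹ := by group
        rwa [h8] at h7
      have h6 : s ∈ Z := hfix s hs h5
      have h7 : s * x = x * s := hZc x hxX s h6
      rw [mem_cz]
      calc s * w * k * x = s * w * (k * x) := by group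
        _ = s * (w * x) * k := by rw [hkx]; group
        _ = (s * x) * w * k := by rw [hwx]; group
        _ = x * (s * w * k) := by rw [h7]; group
    have hxM := hcoat x hxX hxZ
    have heq : Subgroup.centralizer ({x} : Set G) = Subgroup.centralizer ({x * y} : Set G) :=
      (hxyM.le_iff.1 hle).resolve_left hxM.1
    have hle2 : Subgroup.centralizer ({x} : Set G) ≤ Subgroup.centralizer ({y} : Set G) := by
      intro g hg
      have h1 : g * x = x * g := mem_cz.1 hg
      rw [heq] at hg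
      have h2 : g * (x * y) = x * y * g := mem_cz.1 hg
      rw [mem_cz]
      have h3 : x * (g * y) = x * (y * g) := by
        calc x * (g * y) = (x * g) * y := by group
          _ = (g * x) * y := by rw [h1]
          _ = g * (x * y) := by group
          _ = x * y * g := h2
          _ = x * (y * g) := by group
      exact mul_left_cancel h3
    have heq2 : Subgroup.centralizer ({y} : Set G) = Subgroup.centralizer ({x} : Set G) :=
      (hxM.le_iff.1 hle2).resolve_left hyM.1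
    apply hs₀x
    have := hXy (hSX hs₀)
    rw [heq2] at this
    exact mem_cz.1 this
  have hZCN : Z ≤ Subgroup.centralizer (N : Set G) := by
    intro z hz
    exact hCN z (hXN (Subgroup.mem_inf.1 hz).1) (Subgroup.mem_inf.1 hz).2
  have hback : ∀ g ∈ X, g ∈ Subgroup.centralizer (N : Set G) → g ∈ Z :=
    fun g hg hg' => Subgroup.mem_inf.2 ⟨hg, hcent hg'⟩
  refine ⟨S, hSn, hSX.trans hXN, fun h1 => hs₀Z (hback s₀ (hSX hs₀) (h1 hs₀)),
    ⟨p, hp, fun s hs => hZCN (hexp s hs)⟩, hScomm, ⟨q, hq, hZCN hxq⟩, ?_, ?_⟩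
  · intro s hs h1
    apply hZCN
    apply hfix s hs
    apply hback _ _ h1
    have h2 : s * x * s⁻¹ * x⁻¹ = s * (x * s⁻¹ * x⁻¹) := by group
    rw [h2]
    exact X.mul_mem (hSX hs) (hXn.conj_mem _ (X.inv_mem (hSX hs)) x)
  · intro n hn
    have h1 : n ∈ X ⊔ Subgroup.centralizer (X : Set G) := by rw [htop]; exact Subgroup.mem_top n
    rw [Subgroup.mem_sup_of_normal_left] at h1
    obtain ⟨a, ha, k, hk, rfl⟩ := h1
    have h3 : a ∈ S ⊔ Subgroup.zpowers x := hXS ha
    rw [Subgroup.mem_sup_of_normal_left] at h3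
    obtain ⟨s, hs, w, hw, rfl⟩ := h3
    refine ⟨s, hs, w, hw, k, hCN k ?_ hk, rfl⟩
    have := N.mul_mem (N.inv_mem (hXN ha)) hn
    rwa [inv_mul_cancel_left] at this

/-- Frobenius structure of `N / Z(N)` in the nonabelian case. -/
theorem frobenius_quotient [Finite G] (N : Subgroup G) [hNn : N.Normal]
    (h : ∀ x : G, x ∈ N → x ∉ Subgroup.centralizer (N : Set G) → IsCoatom (Subgroup.centralizer ({x} : Set G)))
    (x : G) (hx : x ∈ N)
    (hxc : x ∉ Subgroup.centralizer ((Subgroup.normalClosure {x} : Subgroup G) : Set G)) :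
    ∃ (Q K : Subgroup (↥N ⧸ Subgroup.center ↥N)) (p : ℕ), p.Prime ∧ Cfsg.IsFrobeniusComplement Q ∧
      (Nat.card ↥Q).Prime ∧ K.Normal ∧ (K : Set (↥N ⧸ Subgroup.center ↥N)) = Cfsg.frobeniusKernel Q ∧
      Cfsg.IsElementaryAbelian p K ∧ K ≠ ⊥ ∧ (∀ k ∈ K, ∀ w ∈ Q, k * w = w * k → k = 1 ∨ w = 1) ∧
      K ⊔ Q = ⊤ := by
  classical
  obtain ⟨S, hSn, hSN, hSc, ⟨p, hp, hexp⟩, hScomm, ⟨q, hq, hxq⟩, hfix, hdec⟩ := nonabelian_case N h x hx hxc
  set f := QuotientGroup.mk' (Subgroup.center N) with hf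
  have hker : ∀ n : N, f n = 1 ↔ (n : G) ∈ Subgroup.centralizer (N : Set G) := by
    intro n
    rw [hf, QuotientGroup.mk'_apply, QuotientGroup.eq_one_iff, Subgroup.mem_center_iff,
      Subgroup.mem_centralizer_iff]
    constructor
    · intro h1 g hg
      exact congrArg Subtype.val (h1 ⟨g, hg⟩)
    · intro h1 g
      exact Subtype.ext (h1 g g.2)
  have hsurj : Function.Surjective f := QuotientGroup.mk'_surjective _
  set K : Subgroup (↥N ⧸ Subgroup.center ↥N) := (S.subgroupOf N).map f with hK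
  have hKn : K.Normal := (hSn.subgroupOf N).map f hsurj
  have hKmem : ∀ k ∈ K, ∃ s, ∃ hs : s ∈ S, k = f ⟨s, hSN hs⟩ := by
    rintro _ ⟨s, hs, rfl⟩
    exact ⟨s, Subgroup.mem_subgroupOf.1 hs, rfl⟩
  have hKbot : K ≠ ⊥ := by
    intro h1
    apply hSc
    intro s hs
    have h2 : f ⟨s, hSN hs⟩ ∈ K := ⟨⟨s, hSN hs⟩, Subgroup.mem_subgroupOf.2 hs, rfl⟩
    rw [h1, Subgroup.mem_bot] at h2
    exact (hker _).1 h2
  set xb := f ⟨x, hx⟩ with hxb
  have hxb1 : xb ^ q = 1 := by
    rw [hxb, ← map_pow]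
    exact (hker _).2 hxq
  have hsup : K ⊔ Subgroup.zpowers xb = ⊤ := by
    rw [eq_top_iff]
    intro g _
    obtain ⟨n, rfl⟩ := hsurj g
    obtain ⟨s, hs, w, hw, z, hz, hn⟩ := hdec n n.2
    obtain ⟨k, rfl⟩ := Subgroup.mem_zpowers_iff.1 hw
    have hzN : z ∈ N := by
      have h1 : z = (s * x ^ k)⁻¹ * n := by rw [hn]; group
      rw [h1]
      exact N.mul_mem (N.inv_mem (N.mul_mem (hSN hs) (N.zpow_mem hx k))) n.2
    have h1 : n = ⟨s, hSN hs⟩ * ⟨x, hx⟩ ^ k * ⟨z, hzN⟩ := Subtype.ext hn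
    rw [h1, map_mul, map_mul, map_zpow, (hker ⟨z, hzN⟩).2 hz, mul_one]
    exact Subgroup.mul_mem _ (Subgroup.mem_sup_left ⟨⟨s, hSN hs⟩, Subgroup.mem_subgroupOf.2 hs, rfl⟩)
      (Subgroup.mem_sup_right (Subgroup.mem_zpowers_iff.2 ⟨k, rfl⟩))
  have hfix' : ∀ v ∈ K, v * xb = xb * v → v = 1 := by
    intro v hv hvx
    obtain ⟨s, hs, rfl⟩ := hKmem v hv
    apply (hker _).2
    apply hfix s hs
    have h1 : f (⟨s, hSN hs⟩ * ⟨x, hx⟩ * ⟨s, hSN hs⟩⁻¹ * ⟨x, hx⟩⁻¹) = 1 := by
      rw [map_mul, map_mul, map_mul, map_inv, map_inv, ← hxb, hvx]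
      group
    exact (hker _).1 h1
  obtain ⟨hF, hcard, hkernel⟩ := FrobSimple.frobenius_of_fpf K xb q hq hxb1 hKbot hsup hfix'
  refine ⟨Subgroup.zpowers xb, K, p, hp, hF, hcard ▸ hq, hKn, hkernel, ⟨⟨⟨?_⟩⟩, ?_⟩, hKbot, ?_, hsup⟩
  · rintro ⟨a, ha⟩ ⟨b, hb⟩
    obtain ⟨s, hs, rfl⟩ := hKmem a ha
    obtain ⟨t, ht, rfl⟩ := hKmem b hb
    apply Subtype.ext
    change f _ * f _ = f _ * f _
    rw [← map_mul, ← map_mul]
    congr 1
    exact Subtype.ext (hScomm s hs t ht)
  · intro a ha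
    obtain ⟨s, hs, rfl⟩ := hKmem a ha
    rw [← map_pow]
    exact (hker _).2 (hexp s hs)
  · intro k hk w hw hkw
    by_cases hw1 : w = 1
    · exact Or.inr hw1
    left
    apply hfix' k hk
    -- `xb` is a power of `w`
    have h1 : Subgroup.zpowers w = Subgroup.zpowers xb := by
      apply Subgroup.eq_of_le_of_card_ge (Subgroup.zpowers_le.2 hw)
      rw [hcard, Nat.card_zpowers]
      have h2 : orderOf w ∣ q := by rw [← hcard]; exact Subgroup.orderOf_dvd_natCard _ hw
      rcases (Nat.dvd_prime hq).1 h2 with h3 | h3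
      · exact absurd (orderOf_eq_one_iff.1 h3) hw1
      · exact h3.ge
    have h2 : xb ∈ Subgroup.zpowers w := by rw [h1]; exact Subgroup.mem_zpowers xb
    obtain ⟨m, hm⟩ := Subgroup.mem_zpowers_iff.1 h2
    rw [← hm]
    exact (Commute.zpow_right (show Commute k w from hkw) m).eq

end Cfsg.Agent.H476.MaxCentralizer
end
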