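import Mathlib
import Cfsg.Agent.Lib.CoprimeHyperplane
import Cfsg.Agent.SignalizersComponents.SolvableFunctor
import Cfsg.Agent.H449.GroupCore
import Cfsg.Agent.Lib.NilpotentCoprime
import Cfsg.Agent.Lib.CoprimeStab
import Cfsg.Prelude.Def_Transfer
set_option linter.all false

-- part: H476/CopAct
section
/-!
# Coprime action of an elementary abelian group: restriction, quotients, hyperplanes
-/

set_option autoImplicit false

namespace Cfsg.Agent.H476.CopAct

open Cfsg.Agent.Lib.CoprimeHyperplane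
open scoped commutatorElement

variable {A R : Type*} [CommGroup A] [Group R] (φ : A →* MulAut R)

theorem apply_inv_apply (a : A) (x : R) : φ a⁻¹ (φ a x) = x := by
  rw [← MulAut.mul_apply, ← map_mul, inv_mul_cancel, map_one, MulAut.one_apply]

theorem apply_apply_inv (a : A) (x : R) : φ a (φ a⁻¹ x) = x := by
  rw [← MulAut.mul_apply, ← map_mul, mul_inv_cancel, map_one, MulAut.one_apply]

/-- Restriction of the action to an invariant subgroup. -/
def res (U : Subgroup R) (hU : ∀ a, ∀ x ∈ U, φ a x ∈ U) : A →* MulAut U where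
  toFun a :=
    { toFun := fun x => ⟨φ a x, hU a x x.2⟩
      invFun := fun x => ⟨φ a⁻¹ x, hU a⁻¹ x x.2⟩
      left_inv := fun x => Subtype.ext (apply_inv_apply φ a x)
      right_inv := fun x => Subtype.ext (apply_apply_inv φ a x)
      map_mul' := fun x y => Subtype.ext (map_mul (φ a) (x : R) (y : R)) }
  map_one' := by
    ext x
    change φ 1 (x : R) = x
    rw [map_one, MulAut.one_apply]
  map_mul' a b := by
    ext x
    change φ (a * b) (x : R) = φ a (φ b x)
    rw [map_mul, MulAut.mul_apply]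

theorem res_apply (U : Subgroup R) (hU : ∀ a, ∀ x ∈ U, φ a x ∈ U) (a : A) (x : U) :
    ((res φ U hU a x : U) : R) = φ a x := rfl

theorem mem_fix_res (U : Subgroup R) (hU : ∀ a, ∀ x ∈ U, φ a x ∈ U) (B : Subgroup A) (x : U) :
    x ∈ fix (res φ U hU) B ↔ (x : R) ∈ fix φ B := by
  rw [mem_fix, mem_fix]
  constructor
  · intro h b hb
    have := h b hb
    exact congrArg Subtype.val this
  · intro h b hb
    exact Subtype.ext (h b hb)

/-- The action on the quotient by an invariant normal subgroup. -/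
def quo (N : Subgroup R) [N.Normal] (hN : ∀ a, ∀ x ∈ N, φ a x ∈ N) : A →* MulAut (R ⧸ N) where
  toFun a := MonoidHom.toMulEquiv
    (QuotientGroup.map N N (φ a).toMonoidHom (fun x hx => hN a x hx))
    (QuotientGroup.map N N (φ a⁻¹).toMonoidHom (fun x hx => hN a⁻¹ x hx))
    (by
      ext x
      change (QuotientGroup.mk (φ a⁻¹ (φ a x)) : R ⧸ N) = QuotientGroup.mk x
      rw [apply_inv_apply])
    (by
      ext x
      change (QuotientGroup.mk (φ a (φ a⁻¹ x)) : R ⧸ N) = QuotientGroup.mk x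
      rw [apply_apply_inv])
  map_one' := by
    refine MulEquiv.ext fun x => ?_
    obtain ⟨x, rfl⟩ := QuotientGroup.mk_surjective x
    change (QuotientGroup.mk (φ 1 x) : R ⧸ N) = QuotientGroup.mk x
    rw [map_one, MulAut.one_apply]
  map_mul' a b := by
    refine MulEquiv.ext fun x => ?_
    obtain ⟨x, rfl⟩ := QuotientGroup.mk_surjective x
    change (QuotientGroup.mk (φ (a * b) x) : R ⧸ N) = QuotientGroup.mk (φ a (φ b x))
    rw [map_mul, MulAut.mul_apply]

theorem quo_mk (N : Subgroup R) [N.Normal] (hN : ∀ a, ∀ x ∈ N, φ a x ∈ N) (a : A) (x : R) :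
    quo φ N hN a (QuotientGroup.mk x) = QuotientGroup.mk (φ a x) := rfl

/-- Fixed points on quotients. -/
theorem fix_quo {p : ℕ} [Fact p.Prime] [Finite R] {B : Subgroup A} (hB : IsPGroup p B)
    (N : Subgroup R) [N.Normal] (hN : ∀ a, ∀ x ∈ N, φ a x ∈ N) (hNp : ¬ p ∣ Nat.card N) :
    fix (quo φ N hN) B = (fix φ B).map (QuotientGroup.mk' N) := by
  apply le_antisymm
  · intro y hy
    obtain ⟨x, rfl⟩ := QuotientGroup.mk_surjective y
    obtain ⟨y, hy, hxy⟩ := exists_fixed_in_coset φ hB hNp (fun b _ x hx => hN b x hx) x (by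
      intro b hb
      have h1 := hy b hb
      rw [quo_mk] at h1
      exact QuotientGroup.eq.mp h1.symm)
    exact ⟨y, hy, (QuotientGroup.eq.mpr hxy).symm⟩
  · rintro _ ⟨x, hx, rfl⟩ b hb
    change quo φ N hN b (QuotientGroup.mk x) = QuotientGroup.mk x
    rw [quo_mk, hx b hb]

/-- Invariant Sylow subgroups. -/
theorem exists_inv_sylow {p : ℕ} [Fact p.Prime] [Finite R] (hA : IsPGroup p A)
    (hR : ¬ p ∣ Nat.card R) (q : ℕ) [Fact q.Prime] :
    ∃ P : Sylow q R, ∀ a, ∀ x ∈ P, φ a x ∈ P := by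
  let act : MulDistribMulAction A R := MulDistribMulAction.compHom R φ
  have hcard : ¬ p ∣ Nat.card (Sylow q R) := by
    intro h
    obtain ⟨P⟩ : Nonempty (Sylow q R) := inferInstance
    exact hR (h.trans (P.card_dvd_index.trans (Subgroup.index_dvd_card _)))
  obtain ⟨P, hP⟩ := hA.nonempty_fixed_point_of_prime_not_dvd_card (Sylow q R) hcard
  refine ⟨P, fun a x hx => ?_⟩
  have h1 : a • P = P := hP a
  have h2 : a • x ∈ a • P := ⟨x, hx, rfl⟩
  rwa [h1] at h2

/-- **Coprime generation** by the fixed points of hyperplanes. -/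
theorem iSup_fix_eq_top {p : ℕ} [Fact p.Prime] [Finite A] [Nontrivial A] (hA : ∀ a : A, a ^ p = 1)
    [Finite R] (hR : ¬ p ∣ Nat.card R) :
    ⨆ B : {B : Subgroup A // B.index = p}, fix φ B.1 = ⊤ := by
  have hpA : IsPGroup p A := fun a => ⟨1, by rw [pow_one]; exact hA a⟩
  set W : Subgroup R := ⨆ B : {B : Subgroup A // B.index = p}, fix φ B.1 with hW
  have key : ∀ q : ℕ, q.Prime → ∃ P : Sylow q R, (P : Subgroup R) ≤ W := by
    intro q hq
    haveI : Fact q.Prime := ⟨hq⟩
    obtain ⟨P, hP⟩ := exists_inv_sylow φ hpA hR q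
    refine ⟨P, ?_⟩
    by_cases hpq : p = q
    · subst hpq
      have hPc : Nat.card P = 1 := by
        obtain ⟨n, hn⟩ := IsPGroup.iff_card.1 P.isPGroup'
        rcases Nat.eq_zero_or_pos n with h0 | h0
        · rw [hn, h0, pow_zero]
        · exfalso
          apply hR
          refine dvd_trans ?_ (Subgroup.card_subgroup_dvd_card (P : Subgroup R))
          rw [hn]
          exact dvd_pow_self p h0.ne'
      have hPb : (P : Subgroup R) = ⊥ := Subgroup.card_eq_one.1 hPc
      rw [hPb]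
      exact bot_le
    · have h1 := iSup_fix_eq_top_of_isPGroup (res φ (P : Subgroup R) hP) hpq hA P.isPGroup'
      intro x hx
      have h3 : (⟨x, hx⟩ : (P : Subgroup R)) ∈
          ⨆ B : {B : Subgroup A // B.index = p}, fix (res φ (P : Subgroup R) hP) B.1 := by
        rw [h1]; trivial
      have h4 : (⨆ B : {B : Subgroup A // B.index = p}, fix (res φ (P : Subgroup R) hP) B.1) ≤
          W.subgroupOf (P : Subgroup R) := by
        refine iSup_le fun B z hz => ?_
        rw [mem_fix_res] at hz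
        rw [Subgroup.mem_subgroupOf]
        exact (le_iSup (fun B : {B : Subgroup A // B.index = p} => fix φ B.1) B) hz
      exact h4 h3
  rw [← Subgroup.index_eq_one]
  by_contra hne
  obtain ⟨q, hq, hqd⟩ := Nat.exists_prime_and_dvd hne
  haveI : Fact q.Prime := ⟨hq⟩
  obtain ⟨P, hP⟩ := key q hq
  exact P.not_dvd_index (hqd.trans (Subgroup.index_dvd_of_le hP))

theorem le_iSup_fix {p : ℕ} [Fact p.Prime] [Finite A] [Nontrivial A] (hA : ∀ a : A, a ^ p = 1)
    [Finite R] (hR : ¬ p ∣ Nat.card R) (U : Subgroup R) (hU : ∀ a, ∀ x ∈ U, φ a x ∈ U) :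
    U ≤ ⨆ B : {B : Subgroup A // B.index = p}, U ⊓ fix φ B.1 := by
  have h1 := iSup_fix_eq_top (res φ U hU) hA (fun h => hR (h.trans (Subgroup.card_subgroup_dvd_card U)))
  intro x hx
  have h3 : (⟨x, hx⟩ : U) ∈ ⨆ B : {B : Subgroup A // B.index = p}, fix (res φ U hU) B.1 := by
    rw [h1]; trivial
  have h4 : (⨆ B : {B : Subgroup A // B.index = p}, fix (res φ U hU) B.1) ≤
      (⨆ B : {B : Subgroup A // B.index = p}, U ⊓ fix φ B.1).subgroupOf U := by
    refine iSup_le fun B z hz => ?_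
    rw [mem_fix_res] at hz
    rw [Subgroup.mem_subgroupOf]
    exact (le_iSup (fun B : {B : Subgroup A // B.index = p} => U ⊓ fix φ B.1) B) ⟨z.2, hz⟩
  exact h4 h3

theorem fix_anti {B C : Subgroup A} (h : B ≤ C) : fix φ C ≤ fix φ B := fun _ hx b hb => hx b (h hb)

theorem commutator_inv {U V : Subgroup R} (hU : ∀ a, ∀ x ∈ U, φ a x ∈ U)
    (hV : ∀ a, ∀ x ∈ V, φ a x ∈ V) : ∀ a, ∀ x ∈ ⁅U, V⁆, φ a x ∈ ⁅U, V⁆ := by
  intro a
  have h1 : ⁅U, V⁆ ≤ ⁅U, V⁆.comap (φ a).toMonoidHom := by
    rw [Subgroup.commutator_le]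
    intro x hx y hy
    rw [Subgroup.mem_comap, map_commutatorElement]
    exact Subgroup.commutator_mem_commutator (hU a x hx) (hV a y hy)
  exact h1

/-- `⁅⨆ J, ⨆ D⁆ ≤ R` if `⁅J i, D l⁆ ≤ R` for all `i`, `l`, and all `J i`, `D l` normalize `R`. -/
theorem commutator_iSup_le {ι κ : Sort*} (J : ι → Subgroup R) (D : κ → Subgroup R) (T : Subgroup R)
    (hJD : ∀ i l, ⁅J i, D l⁆ ≤ T)
    (hJ : ∀ i, J i ≤ Subgroup.normalizer (T : Set R)) (hD : ∀ l, D l ≤ Subgroup.normalizer (T : Set R)) :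
    ⁅⨆ i, J i, ⨆ l, D l⁆ ≤ T := by
  set N := Subgroup.normalizer (T : Set R) with hN
  have hconj : ∀ n ∈ N, ∀ t ∈ T, n * t * n⁻¹ ∈ T := fun n hn t ht =>
    (Subgroup.mem_normalizer_iff.mp hn t).mp ht
  have hJN : (⨆ i, J i) ≤ N := iSup_le hJ
  have h1 : ∀ l, ∀ d ∈ D l, ∀ x ∈ ⨆ i, J i, ⁅x, d⁆ ∈ T := by
    intro l d hd x hx
    induction hx using Subgroup.iSup_induction' with
    | hp i x hx => exact hJD i l (Subgroup.commutator_mem_commutator hx hd)
    | h1 => rw [commutatorElement_one_left]; exact one_mem _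
    | hmul x y hx hy h2 h3 =>
      have e : ⁅x * y, d⁆ = x * ⁅y, d⁆ * x⁻¹ * ⁅x, d⁆ := by
        simp only [commutatorElement_def]; group
      rw [e]
      exact mul_mem (hconj x (hJN hx) _ h3) h2
  rw [Subgroup.commutator_le]
  intro x hx d hd
  induction hd using Subgroup.iSup_induction' with
  | hp l d hd => exact h1 l d hd x hx
  | h1 => rw [commutatorElement_one_right]; exact one_mem _
  | hmul d e hd he h2 h3 =>
    have e : ⁅x, d * e⁆ = ⁅x, d⁆ * (d * ⁅x, e⁆ * d⁻¹) := by
      simp only [commutatorElement_def]; group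
    rw [e]
    exact mul_mem h2 (hconj d (iSup_le hD hd) _ h3)

end Cfsg.Agent.H476.CopAct
end

-- part: H476/SpSolv
section
/-!
# A `p'`-group with an elementary abelian group of automorphisms of rank `≥ 3` with solvable fixed points

is solvable, by the solvable signalizer functor theorem.
-/

set_option autoImplicit false

namespace Cfsg.Agent.H476.SpSolv

open Cfsg.Agent.Lib.CoprimeHyperplane Cfsg.Agent.H476.CopAct

theorem isSolvable_of_fix {A G : Type*} [CommGroup A] [Finite A] [Group G] [Finite G] {p : ℕ}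
    [Fact p.Prime] (hA : ∀ a : A, a ^ p = 1) (hcard : p ^ 3 ≤ Nat.card A) (φ : A →* MulAut G)
    (hG : ¬ p ∣ Nat.card G)
    (hfix : ∀ a : A, a ≠ 1 → Group.IsSolvable ↥(fix φ (Subgroup.zpowers a))) :
    Group.IsSolvable G := by
  have hp : p.Prime := Fact.out
  have : Nontrivial A := by
    rw [← Finite.one_lt_card_iff_nontrivial]
    have := hp.two_le
    nlinarith [Nat.pow_le_pow_left this 3]
  let Γ := G ⋊[φ] A
  have hfin : Finite Γ := Finite.of_equiv (G × A) (SemidirectProduct.equivProd (φ := φ)).symm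
  let ι₁ : G →* Γ := SemidirectProduct.inl
  let ι₂ : A →* Γ := SemidirectProduct.inr
  have hι₁ : Function.Injective ι₁ := SemidirectProduct.inl_injective
  have hι₂ : Function.Injective ι₂ := SemidirectProduct.inr_injective
  let G' : Subgroup Γ := ι₁.range
  let A' : Subgroup Γ := ι₂.range
  have hact : ∀ (a : A) (g : G), ι₂ a * ι₁ g * (ι₂ a)⁻¹ = ι₁ (φ a g) := by
    intro a g
    rw [← map_inv]
    exact (SemidirectProduct.inl_aut (φ := φ) a g).symm
  have hG'n : ∀ x ∈ G', ∀ y : Γ, y * x * y⁻¹ ∈ G' := by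
    intro x hx y
    have h1 : G' = (SemidirectProduct.rightHom (φ := φ)).ker := SemidirectProduct.range_inl_eq_ker_rightHom
    rw [h1] at hx ⊢
    exact (MonoidHom.normal_ker _).conj_mem x hx y
  have hA'c : ∀ x ∈ A', ∀ y ∈ A', x * y = y * x := by
    rintro _ ⟨a, rfl⟩ _ ⟨b, rfl⟩
    rw [← map_mul, mul_comm, map_mul]
  have hA'e : Cfsg.IsElementaryAbelian p A' := by
    refine ⟨⟨⟨fun x y => Subtype.ext (hA'c x x.2 y y.2)⟩⟩, ?_⟩
    rintro _ ⟨a, rfl⟩
    rw [← map_pow, hA, map_one]
  have hA'card : p ^ 3 ≤ Nat.card A' := by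
    have h1 : Nat.card A' = Nat.card A := Nat.card_congr (MonoidHom.ofInjective hι₂).symm.toEquiv
    rwa [h1]
  let θ : Γ → Subgroup Γ := fun x => G' ⊓ Subgroup.centralizer {x}
  have hθeq : ∀ a : A, θ (ι₂ a) = (fix φ (Subgroup.zpowers a)).map ι₁ := by
    intro a
    apply le_antisymm
    · rintro _ ⟨⟨g, rfl⟩, hg⟩
      refine ⟨g, ?_, rfl⟩
      have h1 := Subgroup.mem_centralizer_iff.mp hg (ι₂ a) rfl
      have h2 : φ a g = g := by
        apply hι₁
        rw [← hact, h1, mul_inv_cancel_right]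
      have h3 : ∀ n : ℕ, φ (a ^ n) g = g := by
        intro n
        induction n with
        | zero => rw [pow_zero, map_one, MulAut.one_apply]
        | succ n ih => rw [pow_succ, map_mul, MulAut.mul_apply, h2, ih]
      intro b hb
      obtain ⟨k, rfl⟩ := (Submonoid.mem_powers_iff _ _).mp (mem_powers_iff_mem_zpowers.mpr hb)
      exact h3 k
    · rintro _ ⟨g, hg, rfl⟩
      refine ⟨⟨g, rfl⟩, Subgroup.mem_centralizer_iff.mpr fun x hx => ?_⟩
      rw [Set.mem_singleton_iff.mp hx]
      have h1 := hact a g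
      rw [hg a (Subgroup.mem_zpowers a)] at h1
      rw [mul_inv_eq_iff_eq_mul] at h1
      exact h1
  have hθ : Cfsg.IsSolvableSignalizerFunctor p A' θ := by
    refine ⟨⟨fun a _ _ => inf_le_right, ?_, ?_, fun a _ _ b _ _ => ?_⟩, ?_⟩
    · intro a _ _ h
      apply hG
      have h1 : Nat.card G' = Nat.card G := Nat.card_congr (MonoidHom.ofInjective hι₁).symm.toEquiv
      rw [← h1]
      exact h.trans (Subgroup.card_dvd_of_le inf_le_left)
    · intro a ha _ b hb x hx
      refine ⟨hG'n x hx.1 b, Subgroup.mem_centralizer_iff.mpr fun y hy => ?_⟩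
      rw [Set.mem_singleton_iff.mp hy]
      have h1 := Subgroup.mem_centralizer_iff.mp hx.2 a rfl
      have h2 := hA'c a ha b hb
      have h3 : a * (b * x * b⁻¹) = b * (a * x) * b⁻¹ := by
        rw [← mul_assoc, ← mul_assoc, h2]; group
      have h4 : b⁻¹ * a = a * b⁻¹ := by
        rw [inv_mul_eq_iff_eq_mul, ← mul_assoc, ← h2, mul_inv_cancel_right]
      rw [h3, h1, mul_assoc _ b⁻¹ a, h4]; simp only [mul_assoc]
    · exact inf_le_inf_right _ inf_le_left
    · rintro _ ⟨a, rfl⟩ ha1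
      rw [hθeq]
      have ha : a ≠ 1 := by
        rintro rfl
        exact ha1 (map_one _)
      have := hfix a ha
      exact Group.isSolvable_of_surjective
        (f := ((fix φ (Subgroup.zpowers a)).equivMapOfInjective ι₁ hι₁).toMonoidHom)
        ((fix φ (Subgroup.zpowers a)).equivMapOfInjective ι₁ hι₁).surjective
  obtain ⟨h1, -⟩ := Cfsg.Agent.SignalizersComponents.SolvableFunctor.closure_mem hA'e hA'card hθ
  have hsol := h1.1
  have hle : G' ≤ ⨆ a : {a : Γ // a ∈ A' ∧ a ≠ 1}, θ (a : Γ) := by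
    have h2 : (⊤ : Subgroup G) ≤ (⨆ a : {a : Γ // a ∈ A' ∧ a ≠ 1}, θ (a : Γ)).comap ι₁ := by
      rw [← iSup_fix_eq_top φ hA hG]
      refine iSup_le ?_
      rintro ⟨B, hB⟩
      have hBne : ∃ a ∈ B, a ≠ 1 := by
        by_contra hcon
        push Not at hcon
        have hB1 : B = ⊥ := (Subgroup.eq_bot_iff_forall B).mpr hcon
        rw [hB1, Subgroup.index_bot] at hB
        rw [hB] at hcard
        have h5 := hp.two_le
        nlinarith [Nat.pow_le_pow_left h5 2]
      obtain ⟨a, haB, ha1⟩ := hBne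
      intro g hg
      have h3 : ι₁ g ∈ θ (ι₂ a) := by
        rw [hθeq]
        exact ⟨g, fix_anti φ ((Subgroup.zpowers_le).mpr haB) hg, rfl⟩
      have h4 : ι₂ a ≠ 1 := by
        intro h
        exact ha1 (hι₂ (h.trans (map_one _).symm))
      exact (le_iSup (fun a : {a : Γ // a ∈ A' ∧ a ≠ 1} => θ (a : Γ)) ⟨ι₂ a, ⟨a, rfl⟩, h4⟩) h3
    rintro _ ⟨g, rfl⟩
    exact h2 trivial
  have hGsol : Group.IsSolvable G' := Group.isSolvable_of_isSolvable_injective (Subgroup.inclusion_injective hle)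
  exact Group.isSolvable_of_isSolvable_injective (f := (MonoidHom.ofInjective hι₁).toMonoidHom)
    (MonoidHom.ofInjective hι₁).injective

end Cfsg.Agent.H476.SpSolv
end

-- part: H476/Krek
section
/-!
# Kreknin's theorem when the zero component acts nilpotently

A `ℤ/n`-graded Lie ring `L` with `[L, L₀, …, L₀] = 0` (`m` times) is solvable of `(n, m)`-bounded derived length.
-/

set_option autoImplicit false

namespace Cfsg.Agent.H476.Krek

open Cfsg.Agent.H449

variable {L : Type*} [LieRing L] {n : ℕ}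

/-- The part of a family in the degrees `≥ k`. -/
def fge (F : ZMod n → AddSubgroup L) (k : ℕ) : ZMod n → AddSubgroup L := fun i =>
  if k ≤ i.val then F i else ⊥

theorem fge_of_le (F : ZMod n → AddSubgroup L) {k : ℕ} {i : ZMod n} (h : k ≤ i.val) :
    fge F k i = F i := if_pos h

theorem fge_of_not_le (F : ZMod n → AddSubgroup L) {k : ℕ} {i : ZMod n} (h : ¬ k ≤ i.val) :
    fge F k i = ⊥ := if_neg h

theorem fge_le (F : ZMod n → AddSubgroup L) (k : ℕ) : fge F k ≤ F := by
  intro i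
  by_cases h : k ≤ i.val
  · rw [fge_of_le F h]
  · rw [fge_of_not_le F h]; exact bot_le

theorem fge_mono {F G : ZMod n → AddSubgroup L} (h : F ≤ G) (k : ℕ) : fge F k ≤ fge G k := by
  intro i
  by_cases hi : k ≤ i.val
  · rw [fge_of_le F hi, fge_of_le G hi]; exact h i
  · rw [fge_of_not_le F hi]; exact bot_le

theorem fgen_mono {F G : ZMod n → AddSubgroup L} (h : F ≤ G) : fgen F ≤ fgen G :=
  fgen_le (h.trans (le_fgen G)) (fbr_fgen_le G)

/-- `[G, F₀, …, F₀]` (`k` times). -/
def it0 (F G : ZMod n → AddSubgroup L) : ℕ → ZMod n → AddSubgroup L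
  | 0 => G
  | k + 1 => fun i => AddSubgroup.closure {z | ∃ x ∈ it0 F G k i, ∃ y ∈ F 0, ⁅x, y⁆ = z}

theorem lie_mem_it0 {F G : ZMod n → AddSubgroup L} {k : ℕ} {i : ZMod n} {x y : L}
    (hx : x ∈ it0 F G k i) (hy : y ∈ F 0) : ⁅x, y⁆ ∈ it0 F G (k + 1) i :=
  AddSubgroup.subset_closure ⟨x, hx, y, hy, rfl⟩

theorem it0_mono {F F' G G' : ZMod n → AddSubgroup L} (hF : F ≤ F') (hG : G ≤ G') (k : ℕ) :
    it0 F G k ≤ it0 F' G' k := by
  induction k with
  | zero => exact hG
  | succ k ih =>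
    intro i
    apply (AddSubgroup.closure_le _).mpr
    rintro _ ⟨x, hx, y, hy, rfl⟩
    exact lie_mem_it0 (ih i hx) (hF 0 hy)

theorem fder_le {F : ZMod n → AddSubgroup L} (hF : fbr F F ≤ F) (k : ℕ) : fder F k ≤ F := by
  induction k with
  | zero => exact le_rfl
  | succ k ih => exact (fbr_mono ih ih).trans hF

theorem fbr_fder_le {F : ZMod n → AddSubgroup L} (hF : fbr F F ≤ F) (k : ℕ) :
    fbr (fder F k) (fder F k) ≤ fder F k := by
  induction k with
  | zero => exact hF
  | succ k ih => exact fbr_mono ih ih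

/-- `[F, ⟨E⟩] ≤ [F, E]`. -/
theorem fbr_fgen_le_fbr_left {F E : ZMod n → AddSubgroup L} (hF : fbr F F ≤ F) (hE : E ≤ F) :
    fbr F (fgen E) ≤ fbr F E := by
  let H : ZMod n → AddSubgroup L := fun b =>
    { carrier := {y | y ∈ F b ∧ ∀ a : ZMod n, ∀ x ∈ F a, ⁅x, y⁆ ∈ fbr F E (a + b)}
      add_mem' := by
        rintro y y' ⟨h1, h2⟩ ⟨h3, h4⟩
        refine ⟨add_mem h1 h3, fun a x hx => ?_⟩
        rw [lie_add]
        exact add_mem (h2 a x hx) (h4 a x hx)
      zero_mem' := ⟨zero_mem _, fun a x _ => by rw [lie_zero]; exact zero_mem _⟩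
      neg_mem' := by
        rintro y ⟨h1, h2⟩
        refine ⟨neg_mem h1, fun a x hx => ?_⟩
        rw [lie_neg]
        exact neg_mem (h2 a x hx) }
  have hH : fgen E ≤ H := by
    apply fgen_le
    · intro b y hy
      exact ⟨hE b hy, fun a x hx => lie_mem_fbr hx hy⟩
    · apply fbr_le
      rintro b b' y ⟨h1, h2⟩ y' ⟨h3, h4⟩
      refine ⟨hF _ (lie_mem_fbr h1 h3), fun a x hx => ?_⟩
      rw [leibniz_lie, ← lie_skew y]
      have h5 : ⁅x, y⁆ ∈ F (a + b) := hF _ (lie_mem_fbr hx h1)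
      have h6 : ⁅x, y'⁆ ∈ F (a + b') := hF _ (lie_mem_fbr hx h3)
      have h7 := h4 _ _ h5
      have h8 := h2 _ _ h6
      rw [add_assoc] at h7 h8
      rw [add_comm b' b] at h8
      exact add_mem h7 (neg_mem h8)
  exact fbr_le fun a b x hx y hy => (hH b hy).2 a x hx

/-- If `E` is normalized by `F₀` then so is `⟨E⟩`. -/
theorem lie_fgen_mem {F E : ZMod n → AddSubgroup L}
    (hE : ∀ i, ∀ x ∈ E i, ∀ z ∈ F 0, ⁅x, z⁆ ∈ E i) :
    ∀ i, ∀ x ∈ fgen E i, ∀ z ∈ F 0, ⁅x, z⁆ ∈ fgen E i := by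
  let H : ZMod n → AddSubgroup L := fun b =>
    { carrier := {y | y ∈ fgen E b ∧ ∀ z ∈ F 0, ⁅y, z⁆ ∈ fgen E b}
      add_mem' := by
        rintro y y' ⟨h1, h2⟩ ⟨h3, h4⟩
        refine ⟨add_mem h1 h3, fun z hz => ?_⟩
        rw [add_lie]
        exact add_mem (h2 z hz) (h4 z hz)
      zero_mem' := ⟨zero_mem _, fun z _ => by rw [zero_lie]; exact zero_mem _⟩
      neg_mem' := by
        rintro y ⟨h1, h2⟩
        refine ⟨neg_mem h1, fun z hz => ?_⟩
        rw [neg_lie]
        exact neg_mem (h2 z hz) }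
  have hH : fgen E ≤ H := by
    apply fgen_le
    · intro b y hy
      exact ⟨le_fgen E b hy, fun z hz => le_fgen E b (hE b y hy z hz)⟩
    · apply fbr_le
      rintro b b' y ⟨h1, h2⟩ y' ⟨h3, h4⟩
      refine ⟨fbr_fgen_le E _ (lie_mem_fbr h1 h3), fun z hz => ?_⟩
      have e : ⁅⁅y, y'⁆, z⁆ = ⁅y, ⁅y', z⁆⁆ + ⁅⁅y, z⁆, y'⁆ := by
        have h := leibniz_lie y y' z
        rw [h]
        have h' : ⁅y', ⁅y, z⁆⁆ = - ⁅⁅y, z⁆, y'⁆ := (lie_skew y' ⁅y, z⁆).symm ▸ rfl
        rw [h']
        abel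
      rw [e]
      exact add_mem (fbr_fgen_le E _ (lie_mem_fbr h1 (h4 z hz)))
        (fbr_fgen_le E _ (lie_mem_fbr (h2 z hz) h3))
  intro i x hx z hz
  exact (hH i hx).2 z hz

/-- One step. -/
theorem step_a [NeZero n] {F : ZMod n → AddSubgroup L} (hF : fbr F F ≤ F) {k f : ℕ}
    (hf : fder F f ≤ fgen (fge F k)) (i : ZMod n) (hi : i.val = k) :
    fder F (f + 1) i ≤ fgen (fge F (k + 1)) i ⊔ it0 F F 1 i := by
  have h1 : fder F (f + 1) ≤ fbr F (fge F k) :=
    (fbr_mono (fder_le hF f) hf).trans (fbr_fgen_le_fbr_left hF (fge_le F k))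
  refine (h1 i).trans ?_
  apply (AddSubgroup.closure_le _).mpr
  rintro _ ⟨a, b, hab, x, hx, y, hy, rfl⟩
  by_cases hb : k ≤ b.val
  · rw [fge_of_le F hb] at hy
    by_cases hb' : b.val = k
    · have hbi : b = i := ZMod.val_injective n (by rw [hb', hi])
      have ha : a = 0 := by
        rw [hbi] at hab
        exact add_eq_right.mp hab
      subst ha
      subst hbi
      apply AddSubgroup.mem_sup_right
      rw [← lie_skew]
      exact neg_mem (lie_mem_it0 (k := 0) hy hx)
    · have hb2 : k + 1 ≤ b.val := by omega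
      have hval : (a + b).val = if a.val + b.val < n then a.val + b.val
          else a.val + b.val - n := by
        rw [ZMod.val_add]
        have h5 := ZMod.val_lt a
        have h6 := ZMod.val_lt b
        split_ifs with h7
        · exact Nat.mod_eq_of_lt h7
        · rw [Nat.mod_eq_sub_mod (by omega), Nat.mod_eq_of_lt (by omega)]
      rw [hab, hi] at hval
      have h5 := ZMod.val_lt a
      have h6 := ZMod.val_lt b
      have ha2 : k + 1 ≤ a.val := by
        split_ifs at hval <;> omega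
      have hx' : x ∈ fgen (fge F (k + 1)) a := by
        apply le_fgen
        rw [fge_of_le F ha2]
        exact hx
      have hy' : y ∈ fgen (fge F (k + 1)) b := by
        apply le_fgen
        rw [fge_of_le F hb2]
        exact hy
      exact AddSubgroup.mem_sup_left (fbr_fgen_le _ _ (lie_mem_fbr' hab hx' hy'))
  · rw [fge_of_not_le F hb, AddSubgroup.mem_bot] at hy
    rw [hy, lie_zero]
    exact zero_mem _

/-- The bound. -/
def kf (m : ℕ) : ℕ → ℕ
  | 0 => 0
  | k + 1 => m * (kf m k + 1) + kf m k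

theorem krek_aux [NeZero n] (m k : ℕ) : ∀ F : ZMod n → AddSubgroup L, fbr F F ≤ F →
    (∀ i, it0 F F m i = ⊥) → fder F (kf m k) ≤ fgen (fge F k) := by
  induction k with
  | zero =>
    intro F _ _ i
    refine le_trans ?_ (le_fgen _ i)
    rw [fge_of_le F (Nat.zero_le _)]
    exact le_rfl
  | succ k ih =>
    intro F hF h0
    set s := kf m k + 1 with hs
    set W := fgen (fge F (k + 1)) with hW
    have hWn : ∀ i, ∀ x ∈ W i, ∀ z ∈ F 0, ⁅x, z⁆ ∈ W i := by
      apply lie_fgen_mem
      intro i x hx z hz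
      by_cases hi : k + 1 ≤ i.val
      · rw [fge_of_le F hi] at hx ⊢
        exact hF i (lie_mem_fbr' (add_zero i) hx hz)
      · rw [fge_of_not_le F hi, AddSubgroup.mem_bot] at hx
        rw [hx, zero_lie]; exact zero_mem _
    have hb : ∀ j : ℕ, ∀ i : ZMod n, i.val = k → fder F (j * s) i ≤ W i ⊔ it0 F F j i := by
      intro j
      induction j with
      | zero =>
        intro i _
        rw [Nat.zero_mul]
        exact le_sup_right
      | succ j ihj =>
        intro i hi
        have hN : fder F ((j + 1) * s) = fder (fder F (j * s)) s := by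
          rw [← fder_add]; congr 1; ring
        rw [hN]
        have hNF : fder F (j * s) ≤ F := fder_le hF _
        have hNN : fbr (fder F (j * s)) (fder F (j * s)) ≤ fder F (j * s) := fbr_fder_le hF _
        have hN0 : ∀ i, it0 (fder F (j * s)) (fder F (j * s)) m i = ⊥ := by
          intro i
          rw [eq_bot_iff, ← h0 i]
          exact it0_mono hNF hNF m i
        have h1 := step_a hNN (ih _ hNN hN0) i hi
        refine h1.trans (sup_le ?_ ?_)
        · exact (fgen_mono (fge_mono hNF (k + 1)) i).trans le_sup_left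
        · apply (AddSubgroup.closure_le _).mpr
          rintro _ ⟨x, hx, z, hz, rfl⟩
          have hx' := ihj i hi hx
          have hz' : z ∈ F 0 := hNF 0 hz
          obtain ⟨w, hw, y, hy, rfl⟩ := AddSubgroup.mem_sup.mp hx'
          rw [SetLike.mem_coe, add_lie]
          exact add_mem (AddSubgroup.mem_sup_left (hWn i w hw z hz'))
            (AddSubgroup.mem_sup_right (lie_mem_it0 hy hz'))
    have hkf : kf m (k + 1) = m * s + kf m k := rfl
    rw [hkf, fder_add]
    have hNF : fder F (m * s) ≤ F := fder_le hF _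
    have hNN : fbr (fder F (m * s)) (fder F (m * s)) ≤ fder F (m * s) := fbr_fder_le hF _
    have hN0 : ∀ i, it0 (fder F (m * s)) (fder F (m * s)) m i = ⊥ := by
      intro i
      rw [eq_bot_iff, ← h0 i]
      exact it0_mono hNF hNF m i
    refine (ih _ hNN hN0).trans (fgen_le ?_ (fbr_fgen_le _))
    intro i
    by_cases hi : k ≤ i.val
    · rw [fge_of_le _ hi]
      by_cases hi' : k + 1 ≤ i.val
      · refine le_trans ?_ (le_fgen _ i)
        rw [fge_of_le F hi']
        exact hNF i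
      · have h1 := hb m i (by omega)
        rw [h0 i, sup_bot_eq] at h1
        exact h1
    · rw [fge_of_not_le _ hi]
      exact bot_le

/-- **Kreknin's theorem, generalized.** -/
theorem krek [NeZero n] (m : ℕ) (F : ZMod n → AddSubgroup L) (hF : fbr F F ≤ F)
    (h0 : ∀ i, it0 F F m i = ⊥) : fder F (kf m n) = ⊥ := by
  rw [eq_bot_iff]
  refine (krek_aux m n F hF h0).trans (fgen_le ?_ ?_)
  · intro i
    have : ¬ n ≤ i.val := not_le.mpr (ZMod.val_lt i)
    rw [fge_of_not_le F this]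
    exact bot_le
  · apply fbr_le
    intro a b x hx y hy
    have : x = 0 := hx
    rw [this, zero_lie]
    exact zero_mem _

end Cfsg.Agent.H476.Krek
end

-- part: H476/Collect
section
/-!
# Additive subgroups of a Lie ring acting nilpotently: a collection lemma

If `S` is a solvable Lie subring which is a sum of `t` subgroups acting nilpotently (and so are the terms of
its derived series) then `S` acts nilpotently.
-/

set_option autoImplicit false

namespace Cfsg.Agent.H476.Collect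

open Cfsg.Agent.H449

variable {L : Type*} [LieRing L]

/-- The additive subgroup generated by the brackets. -/
def br (N S : AddSubgroup L) : AddSubgroup L :=
  AddSubgroup.closure {z | ∃ x ∈ N, ∃ y ∈ S, ⁅x, y⁆ = z}

theorem lie_mem_br {N S : AddSubgroup L} {x y : L} (hx : x ∈ N) (hy : y ∈ S) : ⁅x, y⁆ ∈ br N S :=
  AddSubgroup.subset_closure ⟨x, hx, y, hy, rfl⟩

theorem br_le {N S T : AddSubgroup L} (h : ∀ x ∈ N, ∀ y ∈ S, ⁅x, y⁆ ∈ T) : br N S ≤ T := by
  apply (AddSubgroup.closure_le _).mpr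
  rintro _ ⟨x, hx, y, hy, rfl⟩
  exact h x hx y hy

theorem br_mono {N N' S S' : AddSubgroup L} (hN : N ≤ N') (hS : S ≤ S') : br N S ≤ br N' S' :=
  br_le fun _ hx _ hy => lie_mem_br (hN hx) (hS hy)

theorem br_comm_le (N S : AddSubgroup L) : br N S ≤ br S N :=
  br_le fun x hx y hy => by rw [← lie_skew]; exact neg_mem (lie_mem_br hy hx)

theorem br_comm (N S : AddSubgroup L) : br N S = br S N := le_antisymm (br_comm_le N S) (br_comm_le S N)

theorem br_bot (N : AddSubgroup L) : br N ⊥ = ⊥ := by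
  rw [eq_bot_iff]
  exact br_le fun x _ y hy => by
    rw [AddSubgroup.mem_bot.mp hy, lie_zero]; exact zero_mem _

theorem bot_br (N : AddSubgroup L) : br ⊥ N = ⊥ := by rw [br_comm, br_bot]

/-- Brackets with a closure on the left. -/
theorem lie_mem_of_closure {X : Set L} {T : AddSubgroup L} {y : L} (h : ∀ x ∈ X, ⁅x, y⁆ ∈ T) {x : L}
    (hx : x ∈ AddSubgroup.closure X) : ⁅x, y⁆ ∈ T := by
  induction hx using AddSubgroup.closure_induction with
  | mem x hx => exact h x hx
  | zero => rw [zero_lie]; exact zero_mem _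
  | add a b _ _ ha hb => rw [add_lie]; exact add_mem ha hb
  | neg a _ ha => rw [neg_lie]; exact neg_mem ha

/-- Brackets with a closure on the right. -/
theorem lie_mem_of_closure_right {X : Set L} {T : AddSubgroup L} {x : L} (h : ∀ y ∈ X, ⁅x, y⁆ ∈ T) {y : L}
    (hy : y ∈ AddSubgroup.closure X) : ⁅x, y⁆ ∈ T := by
  induction hy using AddSubgroup.closure_induction with
  | mem x hx => exact h x hx
  | zero => rw [lie_zero]; exact zero_mem _
  | add a b _ _ ha hb => rw [lie_add]; exact add_mem ha hb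
  | neg a _ ha => rw [lie_neg]; exact neg_mem ha

theorem br_sup_left (N N' S : AddSubgroup L) : br (N ⊔ N') S ≤ br N S ⊔ br N' S := by
  refine br_le fun x hx y hy => ?_
  obtain ⟨a, ha, b, hb, rfl⟩ := AddSubgroup.mem_sup.mp hx
  rw [add_lie]
  exact add_mem (AddSubgroup.mem_sup_left (lie_mem_br ha hy)) (AddSubgroup.mem_sup_right (lie_mem_br hb hy))

theorem br_sup_right (N S S' : AddSubgroup L) : br N (S ⊔ S') ≤ br N S ⊔ br N S' := by
  refine br_le fun x hx y hy => ?_
  obtain ⟨a, ha, b, hb, rfl⟩ := AddSubgroup.mem_sup.mp hy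
  rw [lie_add]
  exact add_mem (AddSubgroup.mem_sup_left (lie_mem_br hx ha)) (AddSubgroup.mem_sup_right (lie_mem_br hx hb))

theorem br_iSup_left {ι : Sort*} (N : ι → AddSubgroup L) (S : AddSubgroup L) :
    br (⨆ i, N i) S ≤ ⨆ i, br (N i) S := by
  refine br_le fun x hx y hy => ?_
  induction hx using AddSubgroup.iSup_induction' with
  | hp i x hx => exact AddSubgroup.mem_iSup_of_mem i (lie_mem_br hx hy)
  | h1 => rw [zero_lie]; exact zero_mem _
  | hadd x y _ _ h1 h2 => rw [add_lie]; exact add_mem h1 h2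

theorem br_iSup_right {ι : Sort*} (N : AddSubgroup L) (S : ι → AddSubgroup L) :
    br N (⨆ i, S i) ≤ ⨆ i, br N (S i) := by
  refine br_le fun x hx y hy => ?_
  induction hy using AddSubgroup.iSup_induction' with
  | hp i y hy => exact AddSubgroup.mem_iSup_of_mem i (lie_mem_br hx hy)
  | h1 => rw [lie_zero]; exact zero_mem _
  | hadd x y _ _ h1 h2 => rw [lie_add]; exact add_mem h1 h2

/-- Jacobi: `[[U, X], Y] ≤ [[U, Y], X] + [U, [X, Y]]`. -/
theorem br_br_le (U X Y : AddSubgroup L) : br (br U X) Y ≤ br (br U Y) X ⊔ br U (br X Y) := by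
  refine br_le fun z hz y hy => ?_
  refine lie_mem_of_closure ?_ hz
  rintro _ ⟨u, hu, x, hx, rfl⟩
  have e : ⁅⁅u, x⁆, y⁆ = ⁅⁅u, y⁆, x⁆ + ⁅u, ⁅x, y⁆⁆ := by
    have h := leibniz_lie u x y
    rw [h, ← lie_skew x ⁅u, y⁆]
    abel
  rw [e]
  exact add_mem (AddSubgroup.mem_sup_left (lie_mem_br (lie_mem_br hu hy) hx))
    (AddSubgroup.mem_sup_right (lie_mem_br hu (lie_mem_br hx hy)))

/-- `[N, S, …, S]` (`k` times). -/
def itr (N S : AddSubgroup L) : ℕ → AddSubgroup L
  | 0 => N
  | k + 1 => br (itr N S k) S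

theorem itr_zero (N S : AddSubgroup L) : itr N S 0 = N := rfl

theorem itr_succ (N S : AddSubgroup L) (k : ℕ) : itr N S (k + 1) = br (itr N S k) S := rfl

theorem itr_mono {N N' S S' : AddSubgroup L} (hN : N ≤ N') (hS : S ≤ S') (k : ℕ) :
    itr N S k ≤ itr N' S' k := by
  induction k with
  | zero => exact hN
  | succ k ih => exact br_mono ih hS

theorem itr_add (N S : AddSubgroup L) (a b : ℕ) : itr N S (a + b) = itr (itr N S a) S b := by
  induction b with
  | zero => rfl
  | succ b ih => rw [← add_assoc, itr_succ, ih, itr_succ]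

theorem itr_bot (S : AddSubgroup L) (k : ℕ) : itr (⊥ : AddSubgroup L) S k = ⊥ := by
  induction k with
  | zero => rfl
  | succ k ih => rw [itr_succ, ih, bot_br]

theorem itr_eq_bot_of_le {N S : AddSubgroup L} {a b : ℕ} (h : itr N S a = ⊥) (hab : a ≤ b) :
    itr N S b = ⊥ := by
  obtain ⟨c, rfl⟩ := Nat.exists_eq_add_of_le hab
  rw [itr_add, h, itr_bot]

/-- The derived series of an additive subgroup. -/
def der (S : AddSubgroup L) : ℕ → AddSubgroup L
  | 0 => S
  | k + 1 => br (der S k) (der S k)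

theorem der_succ (S : AddSubgroup L) (k : ℕ) : der S (k + 1) = br (der S k) (der S k) := rfl

theorem der_mono {S T : AddSubgroup L} (h : S ≤ T) (k : ℕ) : der S k ≤ der T k := by
  induction k with
  | zero => exact h
  | succ k ih => exact br_mono ih ih

theorem br_der_le {S : AddSubgroup L} (hS : br S S ≤ S) (k : ℕ) : br (der S k) (der S k) ≤ der S k := by
  induction k with
  | zero => exact hS
  | succ k ih => exact br_mono ih ih

theorem der_anti {S : AddSubgroup L} (hS : br S S ≤ S) (k : ℕ) : der S (k + 1) ≤ der S k := br_der_le hS k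

/-- Passing an operator `X` over `a` operators `Y` modulo `V`. -/
theorem br_itr_comm {U V X Y R : AddSubgroup L} (hXR : X ≤ R) (hYR : Y ≤ R) (hU : br U R ≤ U)
    (hV : br U (br R R) ≤ V) (hVR : br V R ≤ V) (a : ℕ) :
    ∀ Z : AddSubgroup L, Z ≤ U → br (itr Z Y a) X ≤ V ⊔ itr (br Z X) Y a := by
  induction a with
  | zero => intro Z _; exact le_sup_right
  | succ a ih =>
    intro Z hZ
    have hZa : itr Z Y a ≤ U := by
      clear ih
      induction a with
      | zero => exact hZ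
      | succ a ih' => exact (br_mono ih' hYR).trans hU
    rw [itr_succ]
    refine (br_br_le _ _ _).trans (sup_le ?_ ?_)
    · refine (br_mono (ih Z hZ) le_rfl).trans ((br_sup_left _ _ _).trans (sup_le ?_ ?_))
      · exact ((br_mono le_rfl hYR).trans hVR).trans le_sup_left
      · exact le_sup_right
    · exact ((br_mono hZa (br_mono hYR hXR)).trans hV).trans le_sup_left

/-- Expansion of `[U, X + Y, …, X + Y]` modulo `V`. -/
theorem itr_sup_le {U V X Y R : AddSubgroup L} (hXR : X ≤ R) (hYR : Y ≤ R) (hU : br U R ≤ U)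
    (hV : br U (br R R) ≤ V) (hVR : br V R ≤ V) (n : ℕ) :
    itr U (X ⊔ Y) n ≤ V ⊔ ⨆ b : {b : ℕ // b ≤ n}, itr (itr U X b) Y (n - b) := by
  induction n with
  | zero =>
    exact le_trans (le_iSup (fun b : {b : ℕ // b ≤ 0} => itr (itr U X b) Y (0 - b)) ⟨0, le_rfl⟩) le_sup_right
  | succ n ih =>
    rw [itr_succ]
    refine (br_mono ih le_rfl).trans ((br_sup_left _ _ _).trans (sup_le ?_ ?_))
    · exact ((br_mono le_rfl (sup_le hXR hYR)).trans hVR).trans le_sup_left
    · refine (br_iSup_left _ _).trans (iSup_le ?_)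
      rintro ⟨b, hb⟩
      have hUb : itr U X b ≤ U := by
        clear hb
        induction b with
        | zero => exact le_rfl
        | succ b ih' => exact (br_mono ih' hXR).trans hU
      refine (br_sup_right _ _ _).trans (sup_le ?_ ?_)
      · refine (br_itr_comm hXR hYR hU hV hVR (n - b) _ hUb).trans (sup_le_sup_left ?_ V)
        have e : n - b = (n + 1) - (b + 1) := by omega
        rw [e]
        exact le_iSup (fun b : {b : ℕ // b ≤ n + 1} => itr (itr U X b) Y (n + 1 - b)) ⟨b + 1, by omega⟩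
      · refine le_trans ?_ le_sup_right
        have e : br (itr (itr U X b) Y (n - b)) Y = itr (itr U X b) Y (n + 1 - b) := by
          rw [← itr_succ]; congr 1; omega
        change br (itr (itr U X b) Y (n - b)) Y ≤ _
        rw [e]
        exact le_iSup (fun b : {b : ℕ // b ≤ n + 1} => itr (itr U X b) Y (n + 1 - b)) ⟨b, by omega⟩

theorem itr_le_of_le {N V Y R : AddSubgroup L} (hYR : Y ≤ R) (hVR : br V R ≤ V) {a b : ℕ}
    (h : itr N Y a ≤ V) (hab : a ≤ b) : itr N Y b ≤ V := by
  obtain ⟨c, rfl⟩ := Nat.exists_eq_add_of_le hab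
  clear hab
  induction c with
  | zero => exact h
  | succ c ih => exact (br_mono ih hYR).trans hVR

/-- The commutative collection step. -/
theorem itr_iSup_le {U V R : AddSubgroup L} (hU : br U R ≤ U)
    (hV : br U (br R R) ≤ V) (hVR : br V R ≤ V) {ι : Type*} (s : Finset ι) (M : ι → AddSubgroup L)
    (hMR : ∀ i, M i ≤ R) (m : ℕ) (hM : ∀ i, itr U (M i) m ≤ V) :
    itr U (⨆ i ∈ s, M i) (s.card * m + 1) ≤ V := by
  classical
  induction s using Finset.induction_on with
  | empty =>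
    have h1 : (⨆ i ∈ (∅ : Finset ι), M i) = ⊥ := by simp
    rw [h1, Finset.card_empty, Nat.zero_mul, zero_add, itr_succ, br_bot]
    exact bot_le
  | insert i s hi ih =>
    have hsR : (⨆ j ∈ s, M j) ≤ R := iSup₂_le fun j _ => hMR j
    rw [Finset.iSup_insert, Finset.card_insert_of_notMem hi]
    refine (itr_sup_le (hMR i) hsR hU hV hVR _).trans (sup_le le_rfl (iSup_le ?_))
    rintro ⟨b, hb⟩
    have hUb : itr U (M i) b ≤ U := by
      clear hb
      induction b with
      | zero => exact le_rfl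
      | succ b ih' => exact (br_mono ih' (hMR i)).trans hU
    by_cases hbm : m ≤ b
    · have h1 : itr U (M i) b ≤ V := itr_le_of_le (hMR i) hVR (hM i) hbm
      have h2 : itr (itr U (M i) b) (⨆ j ∈ s, M j) 0 ≤ V := h1
      exact itr_le_of_le hsR hVR h2 (Nat.zero_le _)
    · have h1 : itr (itr U (M i) b) (⨆ j ∈ s, M j) (s.card * m + 1) ≤ V :=
        (itr_mono hUb le_rfl _).trans ih
      refine itr_le_of_le hsR hVR h1 ?_
      have : (s.card + 1) * m = s.card * m + m := by ring
      change s.card * m + 1 ≤ (s.card + 1) * m + 1 - b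
      omega

/-- A term of the derived series acts nilpotently if the next one does. -/
theorem itr_step {R : AddSubgroup L} (hRR : br R R ≤ R) {ι : Type*} [Fintype ι] (M : ι → AddSubgroup L)
    (m : ℕ) (hM : ∀ i, itr ⊤ (M i) m = ⊥) (hR : R ≤ ⨆ i, (R ⊓ M i)) (n : ℕ)
    (hn : itr ⊤ (br R R) n = ⊥) : itr ⊤ R ((Fintype.card ι * m + 1) * n) = ⊥ := by
  set D := br R R with hD
  have hDR : br D R ≤ D := br_mono hRR le_rfl
  have hUinv : ∀ j : ℕ, br (itr ⊤ D j) R ≤ itr ⊤ D j := by
    intro j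
    induction j with
    | zero => exact le_top
    | succ j ih =>
      rw [itr_succ]
      refine (br_br_le _ _ _).trans (sup_le (br_mono ih le_rfl) (br_mono le_rfl hDR))
  have hstep : ∀ j : ℕ, itr (itr ⊤ D j) R (Fintype.card ι * m + 1) ≤ itr ⊤ D (j + 1) := by
    intro j
    have h1 : R ≤ ⨆ i ∈ (Finset.univ : Finset ι), (R ⊓ M i) := by
      simpa using hR
    refine (itr_mono le_rfl h1 _).trans ?_
    refine itr_iSup_le (R := R) (hUinv j) le_rfl (hUinv (j + 1)) Finset.univ (fun i => R ⊓ M i)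
      (fun i => inf_le_left) m ?_
    intro i
    refine le_trans (itr_mono le_top inf_le_right m) ?_
    rw [hM i]
    exact bot_le
  have hall : ∀ j : ℕ, itr ⊤ R ((Fintype.card ι * m + 1) * j) ≤ itr ⊤ D j := by
    intro j
    induction j with
    | zero => exact le_rfl
    | succ j ih =>
      rw [Nat.mul_succ, itr_add]
      exact (itr_mono ih le_rfl _).trans (hstep j)
  rw [eq_bot_iff, ← hn]
  exact hall n

/-- **Collection lemma.** -/
theorem itr_of_der {S : AddSubgroup L} (hSS : br S S ≤ S) {ι : Type*} [Fintype ι] (M : ι → AddSubgroup L)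
    (m : ℕ) (hM : ∀ i, itr ⊤ (M i) m = ⊥) (hS : ∀ j, der S j ≤ ⨆ i, (der S j ⊓ M i)) (s : ℕ)
    (hs : der S s = ⊥) : itr ⊤ S ((Fintype.card ι * m + 1) ^ s) = ⊥ := by
  have key : ∀ k : ℕ, k ≤ s → itr ⊤ (der S (s - k)) ((Fintype.card ι * m + 1) ^ k) = ⊥ := by
    intro k
    induction k with
    | zero =>
      intro _
      rw [Nat.sub_zero, hs, pow_zero]
      change br (itr ⊤ ⊥ 0) ⊥ = ⊥
      rw [br_bot]
    | succ k ih =>
      intro hk
      have h1 := ih (by omega)
      have e : s - k = (s - (k + 1)) + 1 := by omega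
      rw [e, der_succ] at h1
      have h2 := itr_step (br_der_le hSS _) M m hM (hS _) _ h1
      rw [pow_succ, mul_comm]
      exact h2
  have := key s le_rfl
  rwa [Nat.sub_self] at this

end Cfsg.Agent.H476.Collect
end

-- part: H476/LieAut
section
/-!
# Lie rings with an automorphism of prime order whose fixed points act nilpotently
-/

set_option autoImplicit false

namespace Cfsg.Agent.H476.LieAut

open Cfsg.Agent.H449 Cfsg.Agent.H476.Krek Cfsg.Agent.H476.Collect

universe u

/-- The additive span of the pure tensors `s ⊗ v`, `v ∈ N`. -/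
noncomputable def tsp (A : Type) [CommRing A] {L : Type u} [LieRing L] (N : AddSubgroup L) : AddSubgroup (Ext A L) :=
  AddSubgroup.closure {z | ∃ s : A, ∃ v ∈ N, tm A s v = z}

section

variable {A : Type} [CommRing A] {L : Type u} [LieRing L]

theorem tm_mem_tsp {N : AddSubgroup L} (s : A) {v : L} (hv : v ∈ N) : tm A s v ∈ tsp A N :=
  AddSubgroup.subset_closure ⟨s, v, hv, rfl⟩

theorem tsp_top (x : Ext A L) : x ∈ tsp A (⊤ : AddSubgroup L) := by
  induction x using Ext.ind with
  | h0 => exact zero_mem _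
  | h1 s u => exact tm_mem_tsp s trivial
  | h2 x y hx hy => exact add_mem hx hy

theorem tm_zero (s : A) : tm A s (0 : L) = 0 := TensorProduct.tmul_zero _ _

theorem tm_add (s : A) (x y : L) : tm A s (x + y) = tm A s x + tm A s y := TensorProduct.tmul_add _ _ _

theorem tm_neg (s : A) (x : L) : tm A s (-x) = - tm A s x := TensorProduct.tmul_neg _ _

theorem tsp_bot : tsp A (⊥ : AddSubgroup L) = ⊥ := by
  rw [eq_bot_iff]
  apply (AddSubgroup.closure_le _).mpr
  rintro _ ⟨s, v, hv, rfl⟩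
  rw [AddSubgroup.mem_bot.mp hv]
  exact AddSubgroup.mem_bot.mpr (tm_zero s)

theorem lie_mem_tsp {N S : AddSubgroup L} {x y : Ext A L} (hx : x ∈ tsp A N) (hy : y ∈ tsp A S) :
    ⁅x, y⁆ ∈ tsp A (br N S) := by
  refine lie_mem_of_closure ?_ hx
  rintro _ ⟨s, v, hv, rfl⟩
  refine lie_mem_of_closure_right ?_ hy
  rintro _ ⟨t, w, hw, rfl⟩
  rw [lie_tm]
  exact tm_mem_tsp _ (lie_mem_br hv hw)

end

/-- **Theorem.** Let `a` be an automorphism of the Lie ring `L` with `a ^ p = 1`, `p` a prime which is invertible in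
`L`, whose fixed points act nilpotently: `[L, C_L(a), …, C_L(a)] = 0` (`m` times).
Then `L` is solvable of `(p, m)`-bounded derived length. -/
theorem der_eq_bot_of_aut {p : ℕ} [Fact p.Prime] {L : Type u} [LieRing L] (a : L →+ L)
    (ha : ∀ x y, a ⁅x, y⁆ = ⁅a x, a y⁆) (hap : ∀ x, (⇑a)^[p] x = x) (u : ℕ)
    (hu : ∀ x : L, (u * p) • x = x) (F₀ : AddSubgroup L) (hF₀ : ∀ x, a x = x → x ∈ F₀) (m : ℕ)
    (hm : itr (⊤ : AddSubgroup L) F₀ m = ⊥) : der (⊤ : AddSubgroup L) (kf m p) = ⊥ := by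
  have hp : p.Prime := Fact.out
  obtain ⟨A, _, hfree, hnt, ω, hω, hsum⟩ := exists_root_ring p hp
  let χ : AddChar (ZMod p) A := AddChar.zmodChar p hω
  have hχ : ∑ j : ZMod p, χ j = 0 := by
    have h1 : ∀ j : ZMod p, χ j = ω ^ j.val := fun j => AddChar.zmodChar_apply hω j
    rw [Finset.sum_congr rfl fun j _ => h1 j, ← hsum]
    clear h1 χ hsum hω
    obtain ⟨n, rfl⟩ : ∃ n, p = n + 1 := ⟨p - 1, by have := hp.pos; omega⟩
    exact Fin.sum_univ_eq_sum_range (fun j => ω ^ j) (n + 1)
  let b := ext A a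
  have hb : ∀ x y, b ⁅x, y⁆ = ⁅b x, b y⁆ := ext_lie A a ha
  have hbp : ∀ x, (⇑b)^[p] x = x := ext_iterate A a p hap
  have hu' : ∀ x : Ext A L, (u * p) • x = x := by
    intro x
    induction x using Ext.ind with
    | h0 => exact smul_zero _
    | h1 s v => rw [nsmul_tm, hu]
    | h2 x y hx hy => rw [smul_add, hx, hy]
  -- the trace maps into `tsp F₀`
  have htr : ∀ x : Ext A L, ∑ i ∈ Finset.range p, (⇑b)^[i] x ∈ tsp A F₀ := by
    intro x
    induction x using Ext.ind with
    | h0 =>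
      have : ∀ i : ℕ, (⇑b)^[i] (0 : Ext A L) = 0 := ext_iterate_zero A a
      rw [Finset.sum_congr rfl fun i _ => this i, Finset.sum_const_zero]
      exact zero_mem _
    | h1 s v =>
      have key : ∀ (k : ℕ) (v : L), (⇑b)^[k] (tm A s v) = tm A s ((⇑a)^[k] v) := by
        intro k
        induction k with
        | zero => intro v; rfl
        | succ k ih => intro v; rw [Function.iterate_succ_apply, ext_tm, ih]; rfl
      rw [Finset.sum_congr rfl fun i _ => key i v]
      have h1 : ∀ t : Finset ℕ, ∑ i ∈ t, tm A s ((⇑a)^[i] v) = tm A s (∑ i ∈ t, (⇑a)^[i] v) := by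
        intro t
        classical
        induction t using Finset.induction_on with
        | empty => rw [Finset.sum_empty, Finset.sum_empty, tm_zero]
        | insert i t hi ih => rw [Finset.sum_insert hi, Finset.sum_insert hi, ih, tm_add]
      rw [h1]
      apply tm_mem_tsp
      apply hF₀
      rw [map_sum]
      have h2 : ∀ i ∈ Finset.range p, a ((⇑a)^[i] v) = (⇑a)^[i + 1] v := by
        intro i _
        exact (Function.iterate_succ_apply' (⇑a) i v).symm
      rw [Finset.sum_congr rfl h2]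
      have h3 := Finset.sum_range_succ (fun i => (⇑a)^[i] v) p
      have h4 := Finset.sum_range_succ' (fun i => (⇑a)^[i] v) p
      rw [h3, hap] at h4
      simpa using h4.symm
    | h2 x y hx hy =>
      have : ∀ i : ℕ, (⇑b)^[i] (x + y) = (⇑b)^[i] x + (⇑b)^[i] y := fun i => ext_iterate_add A a i x y
      rw [Finset.sum_congr rfl fun i _ => this i, Finset.sum_add_distrib]
      exact add_mem hx hy
  -- the zero component
  have hzero : ∀ x ∈ eig χ b 0, x ∈ tsp A F₀ := by
    intro x hx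
    rw [mem_eig, AddChar.map_zero_eq_one, one_smul] at hx
    have h1 : ∀ i : ℕ, (⇑b)^[i] x = x := by
      intro i
      induction i with
      | zero => rfl
      | succ i ih => rw [Function.iterate_succ_apply, hx, ih]
    have h2 := htr x
    rw [Finset.sum_congr rfl fun i _ => h1 i, Finset.sum_const, Finset.card_range] at h2
    rw [← hu' x, mul_smul]
    exact AddSubgroup.nsmul_mem _ h2 u
  have hit : ∀ k : ℕ, ∀ i, it0 (eig χ b) (eig χ b) k i ≤ tsp A (itr (⊤ : AddSubgroup L) F₀ k) := by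
    intro k
    induction k with
    | zero => intro i x _; exact tsp_top x
    | succ k ih =>
      intro i
      apply (AddSubgroup.closure_le _).mpr
      rintro _ ⟨x, hx, y, hy, rfl⟩
      exact lie_mem_tsp (ih i hx) (hzero y hy)
  have h0 : ∀ i, it0 (eig χ b) (eig χ b) m i = ⊥ := by
    intro i
    rw [eq_bot_iff]
    refine (hit m i).trans ?_
    rw [hm, tsp_bot]
  haveI : NeZero p := ⟨hp.ne_zero⟩
  have hkrek := krek m (eig χ b) (fbr_eig_le χ b hb) h0
  -- the derived series of the extension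
  have hder : ∀ k : ℕ, der (⊤ : AddSubgroup (Ext A L)) k ≤ ⨆ j, fder (eig χ b) k j := by
    intro k
    induction k with
    | zero =>
      intro x _
      rw [← hu' x, mul_smul]
      apply AddSubgroup.nsmul_mem
      rw [← sum_prj χ hχ b x]
      exact sum_mem fun j _ => AddSubgroup.mem_iSup_of_mem j (prj_mem χ b hbp j x)
    | succ k ih =>
      rw [der_succ]
      refine (br_mono ih ih).trans ?_
      refine (br_iSup_left _ _).trans (iSup_le fun i => ?_)
      refine (br_iSup_right _ _).trans (iSup_le fun j => ?_)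
      refine br_le fun x hx y hy => ?_
      exact AddSubgroup.mem_iSup_of_mem (i + j) (lie_mem_fbr hx hy)
  have hderU : der (⊤ : AddSubgroup (Ext A L)) (kf m p) = ⊥ := by
    rw [eq_bot_iff]
    refine (hder _).trans (iSup_le fun j => ?_)
    rw [hkrek]
    exact le_rfl
  have htm : ∀ k : ℕ, ∀ x ∈ der (⊤ : AddSubgroup L) k, tm A 1 x ∈ der (⊤ : AddSubgroup (Ext A L)) k := by
    intro k
    induction k with
    | zero => intro x _; trivial
    | succ k ih =>
      intro x hx
      rw [der_succ] at hx ⊢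
      change x ∈ AddSubgroup.closure _ at hx
      induction hx using AddSubgroup.closure_induction with
      | mem x hx =>
        obtain ⟨y, hy, z, hz, rfl⟩ := hx
        have : tm A (1 : A) ⁅y, z⁆ = ⁅tm A 1 y, tm A 1 z⁆ := by rw [lie_tm, mul_one]
        rw [this]
        exact lie_mem_br (ih y hy) (ih z hz)
      | zero => rw [tm_zero]; exact zero_mem _
      | add x y _ _ h1 h2 => rw [tm_add]; exact add_mem h1 h2
      | neg x _ h1 => rw [tm_neg]; exact neg_mem h1
  rw [eq_bot_iff]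
  intro x hx
  have h1 := htm _ x hx
  rw [hderU, AddSubgroup.mem_bot] at h1
  exact AddSubgroup.mem_bot.mpr (tm_injective A x h1)

end Cfsg.Agent.H476.LieAut
end

-- part: H476/AddHyper
section
/-!
# Generation of an abelian group by the fixed points of hyperplanes

An elementary abelian `p`-group `A ≠ 1` acting on an additive abelian group `V` in which `p` is invertible.
-/

set_option autoImplicit false

namespace Cfsg.Agent.H476.AddHyper

open Cfsg.Agent.Lib.CoprimeHyperplane

theorem sum_identity {p : ℕ} [Fact p.Prime] {M : Type*} [AddCommMonoid M] (f : ZMod p → ZMod p → M) :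
    (∑ j, f 0 j) + ∑ j, ∑ i, f i (i * j) = p • f 0 0 + ∑ i, ∑ j, f i j := by
  have h2 : ∑ j, ∑ i, f i (i * j) = ∑ i, ∑ j, f i (i * j) := Finset.sum_comm
  rw [h2]
  rw [Fintype.sum_eq_add_sum_compl (0 : ZMod p) (fun i => ∑ j, f i (i * j)),
    Fintype.sum_eq_add_sum_compl (0 : ZMod p) (fun i => ∑ j, f i j)]
  have h0 : ∑ j : ZMod p, f 0 (0 * j) = p • f 0 0 := by
    simp [ZMod.card]
  have h1 : ∑ i ∈ ({0} : Finset (ZMod p))ᶜ, ∑ j, f i (i * j) =
      ∑ i ∈ ({0} : Finset (ZMod p))ᶜ, ∑ j, f i j := by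
    refine Finset.sum_congr rfl fun i hi => ?_
    have hi0 : i ≠ 0 := by simpa using hi
    exact Equiv.sum_comp (Equiv.mulLeft₀ i hi0) (fun j => f i j)
  rw [h0, h1]
  exact add_left_comm _ _ _

variable {A V : Type*} [CommGroup A] [AddCommGroup V] (Φ : A → V →+ V)

/-- The fixed points of `B ≤ A`. -/
def fixV (B : Subgroup A) : AddSubgroup V where
  carrier := {x | ∀ b ∈ B, Φ b x = x}
  zero_mem' := fun b _ => map_zero _
  add_mem' := fun {x y} hx hy b hb => by rw [map_add, hx b hb, hy b hb]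
  neg_mem' := fun {x} hx b hb => by rw [map_neg, hx b hb]

theorem mem_fixV {B : Subgroup A} {x : V} : x ∈ fixV Φ B ↔ ∀ b ∈ B, Φ b x = x := Iff.rfl

variable (h1 : ∀ x, Φ 1 x = x) (hmul : ∀ a b x, Φ (a * b) x = Φ a (Φ b x))

include hmul in
theorem mem_fixV_sup_zpowers {p : ℕ} (hp : p ≠ 0) (hA : ∀ a : A, a ^ p = 1) {D : Subgroup A} {c : A} {x : V}
    (hD : x ∈ fixV Φ D) (hc : Φ c x = x) : x ∈ fixV Φ (D ⊔ Subgroup.zpowers c) := by
  rw [mem_fixV]
  intro b hb
  obtain ⟨d, hd, e, he, rfl⟩ := Subgroup.mem_sup.mp hb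
  rw [hmul]
  have h2 : ∀ n : ℕ, Φ (c ^ (n + 1)) x = x := by
    intro n
    induction n with
    | zero => rw [zero_add, pow_one, hc]
    | succ n ih => rw [pow_succ', hmul, ih, hc]
  obtain ⟨k, rfl⟩ := Subgroup.mem_zpowers_iff.mp he
  obtain ⟨q, rfl⟩ := Nat.exists_eq_succ_of_ne_zero hp
  have h3 : ∃ n : ℕ, c ^ k = c ^ (n + 1) := by
    refine ⟨(k % ((q + 1 : ℕ) : ℤ)).toNat + q, ?_⟩
    have h4 : 0 ≤ k % ((q + 1 : ℕ) : ℤ) := Int.emod_nonneg _ (by positivity)
    have h5 : c ^ k = c ^ (k % ((q + 1 : ℕ) : ℤ)) := by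
      conv_lhs => rw [← Int.mul_ediv_add_emod k ((q + 1 : ℕ) : ℤ)]
      rw [zpow_add, zpow_mul, zpow_natCast, hA, one_zpow, one_mul]
    rw [h5]
    have h6 : c ^ (k % ((q + 1 : ℕ) : ℤ)) = c ^ (k % ((q + 1 : ℕ) : ℤ)).toNat := by
      rw [← zpow_natCast, Int.toNat_of_nonneg h4]
    rw [h6, add_assoc, pow_add, hA, mul_one]
  obtain ⟨n, hn⟩ := h3
  rw [hn, h2]
  exact hD d hd

include h1 hmul in
/-- Generation by the fixed points of the hyperplanes, for elements fixed by a proper subgroup `D`. -/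
theorem mem_iSup_of_fixed {p : ℕ} [Fact p.Prime] [Finite A] (hA : ∀ a : A, a ^ p = 1) (u : ℕ)
    (hu : ∀ x : V, (u * p) • x = x) (W : AddSubgroup V) (hW : ∀ a, ∀ x ∈ W, Φ a x ∈ W) (n : ℕ) :
    ∀ D : Subgroup A, D ≠ ⊤ → D.index ≤ n → ∀ x ∈ W, x ∈ fixV Φ D →
      x ∈ ⨆ B : {B : Subgroup A // B.index = p}, W ⊓ fixV Φ B.1 := by
  have hp : p.Prime := Fact.out
  have hpA : IsPGroup p A := fun a => ⟨1, by rw [pow_one]; exact hA a⟩
  induction n with
  | zero =>
    intro D _ h0
    exact absurd (Nat.le_zero.mp h0) D.index_ne_zero_of_finite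
  | succ n ih =>
    intro D hDtop hDn x hxW hxD
    by_cases hDp : D.index = p
    · exact AddSubgroup.mem_iSup_of_mem ⟨D, hDp⟩ ⟨hxW, hxD⟩
    -- adjoining one element
    have hidx : ∀ c : A, c ∉ D → (D ⊔ Subgroup.zpowers c) ≠ ⊤ ∧ (D ⊔ Subgroup.zpowers c).index ≤ n := by
      intro c hc
      have hlt : D < D ⊔ Subgroup.zpowers c :=
        lt_of_le_of_ne le_sup_left fun h => hc (h ▸ Subgroup.mem_sup_right (Subgroup.mem_zpowers c))
      have hrel : D.relIndex (D ⊔ Subgroup.zpowers c) ∣ p := by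
        rw [sup_comm, Subgroup.relIndex_sup_right]
        have h2 : D.relIndex (Subgroup.zpowers c) ∣ Nat.card (Subgroup.zpowers c) :=
          Subgroup.relIndex_dvd_card _ _
        rw [Nat.card_zpowers] at h2
        exact h2.trans (orderOf_dvd_of_pow_eq_one (hA c))
      have hmulI := Subgroup.relIndex_mul_index hlt.le
      have hrel1 : D.relIndex (D ⊔ Subgroup.zpowers c) ≠ 1 := by
        intro h
        exact absurd (Subgroup.relIndex_eq_one.mp h) (not_le_of_gt hlt)
      have hrelp : D.relIndex (D ⊔ Subgroup.zpowers c) = p :=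
        ((Nat.dvd_prime hp).mp hrel).resolve_left hrel1
      rw [hrelp] at hmulI
      have hpos : 0 < (D ⊔ Subgroup.zpowers c).index := Nat.pos_of_ne_zero Subgroup.index_ne_zero_of_finite
      constructor
      · intro h
        rw [h, Subgroup.index_top, mul_one] at hmulI
        exact hDp hmulI.symm
      · have := hp.two_le
        nlinarith
    have hgood : ∀ c : A, c ∉ D → ∀ y ∈ W, y ∈ fixV Φ D → Φ c y = y →
        y ∈ ⨆ B : {B : Subgroup A // B.index = p}, W ⊓ fixV Φ B.1 := by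
      intro c hc y hyW hyD hyc
      obtain ⟨h2, h3⟩ := hidx c hc
      exact ih _ h2 h3 y hyW (mem_fixV_sup_zpowers Φ hmul hp.ne_zero hA hyD hyc)
    -- choose `a`, `b`
    obtain ⟨a, ha⟩ : ∃ a, a ∉ D := by
      by_contra hcon
      push Not at hcon
      exact hDtop (eq_top_iff.2 fun a _ => hcon a)
    obtain ⟨b, hb⟩ : ∃ b, b ∉ D ⊔ Subgroup.zpowers a := by
      by_contra hcon
      push Not at hcon
      exact (hidx a ha).1 (eq_top_iff.2 fun a _ => hcon a)
    have hcj : ∀ j : ZMod p, a ^ j.val * b ∉ D := by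
      intro j hj
      apply hb
      have : b = (a ^ j.val)⁻¹ * (a ^ j.val * b) := by group
      rw [this]
      exact Subgroup.mul_mem _ (Subgroup.inv_mem _ (Subgroup.mem_sup_right (Subgroup.pow_mem _ (Subgroup.mem_zpowers a) _)))
        (Subgroup.mem_sup_left hj)
    -- traces
    have htr : ∀ c : A, ∀ y : V, Φ c (∑ i : ZMod p, Φ (c ^ i.val) y) = ∑ i : ZMod p, Φ (c ^ i.val) y := by
      intro c y
      rw [map_sum]
      have h2 : ∀ i : ZMod p, Φ c (Φ (c ^ i.val) y) = Φ (c ^ (i + 1).val) y := by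
        intro i
        rw [← hmul, pow_val_add (hA c), pow_val_one, mul_comm]
      rw [Finset.sum_congr rfl fun i _ => h2 i]
      exact Equiv.sum_comp (Equiv.addRight (1 : ZMod p)) fun i => Φ (c ^ i.val) y
    have hinvD : ∀ c : A, ∀ y ∈ fixV Φ D, Φ c y ∈ fixV Φ D := by
      intro c y hy d hd
      rw [← hmul, mul_comm, hmul, hy d hd]
    have htrD : ∀ c : A, ∀ y ∈ fixV Φ D, ∑ i : ZMod p, Φ (c ^ i.val) y ∈ fixV Φ D :=
      fun c y hy => sum_mem fun i _ => hinvD _ y hy
    have htrW : ∀ c : A, ∀ y ∈ W, ∑ i : ZMod p, Φ (c ^ i.val) y ∈ W :=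
      fun c y hy => sum_mem fun i _ => hW _ y hy
    have hid := sum_identity (fun i j : ZMod p => Φ (a ^ j.val * b ^ i.val) x)
    have e1 : ∑ j : ZMod p, Φ (a ^ j.val * b ^ (0 : ZMod p).val) x = ∑ j : ZMod p, Φ (a ^ j.val) x := by
      refine Finset.sum_congr rfl fun j _ => ?_
      rw [ZMod.val_zero, pow_zero, mul_one]
    have e2 : ∀ j : ZMod p, ∑ i : ZMod p, Φ (a ^ (i * j).val * b ^ i.val) x =
        ∑ i : ZMod p, Φ ((a ^ j.val * b) ^ i.val) x := by
      intro j
      refine Finset.sum_congr rfl fun i _ => ?_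
      rw [mul_pow, pow_val_mul (hA a)]
    have e3 : ∑ i : ZMod p, ∑ j : ZMod p, Φ (a ^ j.val * b ^ i.val) x =
        ∑ j : ZMod p, Φ (a ^ j.val) (∑ i : ZMod p, Φ (b ^ i.val) x) := by
      rw [Finset.sum_comm]
      refine Finset.sum_congr rfl fun j _ => ?_
      rw [map_sum]
      refine Finset.sum_congr rfl fun i _ => ?_
      rw [hmul]
    rw [e1, e3] at hid
    simp only [e2] at hid
    have e4 : Φ (a ^ (0 : ZMod p).val * b ^ (0 : ZMod p).val) x = x := by
      rw [ZMod.val_zero, pow_zero, pow_zero, mul_one, h1]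
    rw [e4] at hid
    have hpx : p • x ∈ ⨆ B : {B : Subgroup A // B.index = p}, W ⊓ fixV Φ B.1 := by
      have h2 : p • x = (∑ j : ZMod p, Φ (a ^ j.val) x + ∑ j : ZMod p, ∑ i : ZMod p, Φ ((a ^ j.val * b) ^ i.val) x) -
          ∑ j : ZMod p, Φ (a ^ j.val) (∑ i : ZMod p, Φ (b ^ i.val) x) := by
        rw [hid]; abel
      rw [h2]
      refine sub_mem (add_mem ?_ (sum_mem fun j _ => ?_)) ?_
      · exact hgood a ha _ (htrW a x hxW) (htrD a x hxD) (htr a x)
      · exact hgood _ (hcj j) _ (htrW _ x hxW) (htrD _ x hxD) (htr _ x)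
      · exact hgood a ha _ (htrW a _ (htrW b x hxW)) (htrD a _ (htrD b x hxD)) (htr a _)
    rw [← hu x, mul_smul]
    exact AddSubgroup.nsmul_mem _ hpx u

include h1 hmul in
/-- An invariant additive subgroup is the sum of the fixed points of the hyperplanes of `A`. -/
theorem le_iSup_fixV {p : ℕ} [Fact p.Prime] [Finite A] [Nontrivial A] (hA : ∀ a : A, a ^ p = 1) (u : ℕ)
    (hu : ∀ x : V, (u * p) • x = x) (W : AddSubgroup V) (hW : ∀ a, ∀ x ∈ W, Φ a x ∈ W) :
    W ≤ ⨆ B : {B : Subgroup A // B.index = p}, W ⊓ fixV Φ B.1 := by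
  intro x hx
  refine mem_iSup_of_fixed Φ h1 hmul hA u hu W hW _ ⊥ ?_ le_rfl x hx ?_
  · exact bot_ne_top
  · intro b hb
    rw [Subgroup.mem_bot.mp hb, h1]

end Cfsg.Agent.H476.AddHyper
end

-- part: H476/LieBound
section
/-!
# Nilpotency of a Lie ring with an elementary abelian group of automorphisms

A Lie ring `L` with an action of an elementary abelian `p`-group `A` (`p` invertible in `L`), which is the sum of
finitely many invariant additive subgroups `M i` acting nilpotently with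
`[M i, M j] ∩ C_L(B) ≤ M r` for the hyperplanes `B` of `A`, is nilpotent of bounded class
if `C_L(a)` is solvable for some `a`.
-/

set_option autoImplicit false

namespace Cfsg.Agent.H476.LieBound

open Cfsg.Agent.H449 Cfsg.Agent.H476.Collect Cfsg.Agent.H476.AddHyper Cfsg.Agent.H476.Krek
open Cfsg.Agent.H476.LieAut

universe u

variable {A : Type*} [CommGroup A] {L : Type u} [LieRing L] (Φ : A → L →+ L) {ι : Type*}
  (M : ι → AddSubgroup L)

/-- Invariant additive subgroups which are generated by their intersections with the `M i`. -/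
def Good (N : AddSubgroup L) : Prop :=
  (∀ a, ∀ x ∈ N, Φ a x ∈ N) ∧ N ≤ ⨆ i, N ⊓ M i

theorem br_invariant (hlie : ∀ a x y, Φ a ⁅x, y⁆ = ⁅Φ a x, Φ a y⁆) {N N' : AddSubgroup L}
    (h : ∀ a, ∀ x ∈ N, Φ a x ∈ N) (h' : ∀ a, ∀ x ∈ N', Φ a x ∈ N') :
    ∀ a, ∀ x ∈ br N N', Φ a x ∈ br N N' := by
  intro a
  have h1 : br N N' ≤ (br N N').comap (Φ a) := by
    refine br_le fun x hx y hy => ?_
    rw [AddSubgroup.mem_comap, hlie]
    exact lie_mem_br (h a x hx) (h' a y hy)
  exact h1

theorem good_br {p : ℕ} [Fact p.Prime] [Finite A] [Nontrivial A] (hA : ∀ a : A, a ^ p = 1)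
    (h1 : ∀ x, Φ 1 x = x) (hmul : ∀ a b x, Φ (a * b) x = Φ a (Φ b x))
    (hlie : ∀ a x y, Φ a ⁅x, y⁆ = ⁅Φ a x, Φ a y⁆) (u : ℕ) (hu : ∀ x : L, (u * p) • x = x)
    (hM : ∀ i, ∀ a, ∀ x ∈ M i, Φ a x ∈ M i)
    (hC : ∀ i j, ∀ B : Subgroup A, B.index = p → ∃ r, br (M i) (M j) ⊓ fixV Φ B ≤ M r)
    {N N' : AddSubgroup L} (hN : Good Φ M N) (hN' : Good Φ M N') : Good Φ M (br N N') := by
  refine ⟨br_invariant Φ hlie hN.1 hN'.1, ?_⟩
  have hb : br N N' ≤ br (⨆ i, N ⊓ M i) (⨆ i, N' ⊓ M i) := br_mono hN.2 hN'.2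
  refine hb.trans ((br_iSup_left _ _).trans (iSup_le fun i => (br_iSup_right _ _).trans
    (iSup_le fun j => ?_)))
  have hinv : ∀ a, ∀ x ∈ br (N ⊓ M i) (N' ⊓ M j), Φ a x ∈ br (N ⊓ M i) (N' ⊓ M j) :=
    br_invariant Φ hlie (fun a x hx => ⟨hN.1 a x hx.1, hM i a x hx.2⟩)
      (fun a x hx => ⟨hN'.1 a x hx.1, hM j a x hx.2⟩)
  refine (le_iSup_fixV Φ h1 hmul hA u hu _ hinv).trans (iSup_le ?_)
  rintro ⟨B, hB⟩
  obtain ⟨r, hr⟩ := hC i j B hB
  refine le_trans ?_ (le_iSup (fun r => br N N' ⊓ M r) r)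
  refine le_inf (inf_le_left.trans (br_mono inf_le_left inf_le_left)) ?_
  exact (inf_le_inf_right _ (br_mono inf_le_right inf_le_right)).trans hr

theorem good_iSup {κ : Sort*} {N : κ → AddSubgroup L} (hN : ∀ k, Good Φ M (N k)) :
    Good Φ M (⨆ k, N k) := by
  constructor
  · intro a
    have h1 : (⨆ k, N k) ≤ (⨆ k, N k).comap (Φ a) := by
      refine iSup_le fun k x hx => ?_
      exact AddSubgroup.mem_iSup_of_mem k ((hN k).1 a x hx)
    exact h1
  · refine iSup_le fun k => (hN k).2.trans (iSup_mono fun i => ?_)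
    exact inf_le_inf_right _ (le_iSup N k)

theorem good_fix {p : ℕ} (hA : ∀ a : A, a ^ p = 1)
    (h1 : ∀ x, Φ 1 x = x) (hmul : ∀ a b x, Φ (a * b) x = Φ a (Φ b x))
    (u : ℕ) (hu : ∀ x : L, (u * p) • x = x)
    (hM : ∀ i, ∀ a, ∀ x ∈ M i, Φ a x ∈ M i)
    (hT : Good Φ M ⊤) (a : A) : Good Φ M (fixV Φ (Subgroup.zpowers a)) := by
  have hpow : ∀ (x : L), Φ a x = x → ∀ n : ℕ, Φ (a ^ n) x = x := by
    intro x hx n
    induction n with
    | zero => rw [pow_zero, h1]
    | succ n ih => rw [pow_succ, hmul, hx, ih]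
  have hfin : ∀ (x : L), Φ a x = x → x ∈ fixV Φ (Subgroup.zpowers a) := by
    intro x hx b hb
    obtain ⟨k, rfl⟩ := Subgroup.mem_zpowers_iff.mp hb
    obtain ⟨n, rfl | rfl⟩ := Int.eq_nat_or_neg k
    · rw [zpow_natCast]; exact hpow x hx n
    · have h2 := hpow x hx n
      have h3 : Φ (a ^ (-(n : ℤ))) (Φ (a ^ n) x) = x := by
        rw [← hmul, zpow_neg, zpow_natCast, inv_mul_cancel, h1]
      rwa [h2] at h3
  constructor
  · intro b x hx c hc
    rw [← hmul, mul_comm, hmul, hx c hc]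
  · -- the trace
    have htr : ∀ y : L, ∑ i ∈ Finset.range p, Φ (a ^ i) y ∈ fixV Φ (Subgroup.zpowers a) := by
      intro y
      apply hfin
      rw [map_sum]
      have h2 : ∀ i ∈ Finset.range p, Φ a (Φ (a ^ i) y) = Φ (a ^ (i + 1)) y := by
        intro i _
        rw [← hmul, ← pow_succ']
      rw [Finset.sum_congr rfl h2]
      have h3 := Finset.sum_range_succ (fun i => Φ (a ^ i) y) p
      have h4 := Finset.sum_range_succ' (fun i => Φ (a ^ i) y) p
      rw [h3, hA, pow_zero] at h4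
      exact (add_right_cancel h4).symm
    have key : ∀ y : L, ∑ i ∈ Finset.range p, Φ (a ^ i) y ∈
        ⨆ i, fixV Φ (Subgroup.zpowers a) ⊓ M i := by
      intro y
      have hy : y ∈ ⨆ i, (⊤ : AddSubgroup L) ⊓ M i := hT.2 trivial
      induction hy using AddSubgroup.iSup_induction' with
      | hp i y hy =>
        refine AddSubgroup.mem_iSup_of_mem i ⟨htr y, ?_⟩
        exact sum_mem fun j _ => hM i _ y hy.2
      | h1 =>
        have : ∀ i ∈ Finset.range p, Φ (a ^ i) (0 : L) = 0 := fun i _ => map_zero _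
        rw [Finset.sum_congr rfl this, Finset.sum_const_zero]
        exact zero_mem _
      | hadd y z _ _ h2 h3 =>
        have : ∀ i ∈ Finset.range p, Φ (a ^ i) (y + z) = Φ (a ^ i) y + Φ (a ^ i) z :=
          fun i _ => map_add _ _ _
        rw [Finset.sum_congr rfl this, Finset.sum_add_distrib]
        exact add_mem h2 h3
    intro x hx
    have h2 := key x
    have h3 : ∀ i ∈ Finset.range p, Φ (a ^ i) x = x := fun i _ =>
      hx _ (Subgroup.pow_mem _ (Subgroup.mem_zpowers a) i)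
    rw [Finset.sum_congr rfl h3, Finset.sum_const, Finset.card_range] at h2
    rw [← hu x, mul_smul]
    exact AddSubgroup.nsmul_mem _ h2 u

/-- The bound. -/
def bnd (p t m s : ℕ) : ℕ := (t * m + 1) ^ (kf ((t * m + 1) ^ s) p)

theorem itr_top_top {p : ℕ} [Fact p.Prime] [Finite A] [Nontrivial A] (hA : ∀ a : A, a ^ p = 1)
    (h1 : ∀ x, Φ 1 x = x) (hmul : ∀ a b x, Φ (a * b) x = Φ a (Φ b x))
    (hlie : ∀ a x y, Φ a ⁅x, y⁆ = ⁅Φ a x, Φ a y⁆) (u : ℕ) (hu : ∀ x : L, (u * p) • x = x)
    [Fintype ι] (hM : ∀ i, ∀ a, ∀ x ∈ M i, Φ a x ∈ M i)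
    (hC : ∀ i j, ∀ B : Subgroup A, B.index = p → ∃ r, br (M i) (M j) ⊓ fixV Φ B ≤ M r)
    (m : ℕ) (hm : ∀ i, itr ⊤ (M i) m = ⊥) (hT : Good Φ M ⊤) (a : A) (s : ℕ)
    (hs : der (fixV Φ (Subgroup.zpowers a)) s = ⊥) :
    itr (⊤ : AddSubgroup L) ⊤ (bnd p (Fintype.card ι) m s) = ⊥ := by
  have hder : ∀ N : AddSubgroup L, Good Φ M N → ∀ j, Good Φ M (der N j) := by
    intro N hN j
    induction j with
    | zero => exact hN
    | succ j ih => exact good_br Φ M hA h1 hmul hlie u hu hM hC ih ih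
  have hfix := good_fix Φ M hA h1 hmul u hu hM hT a
  have hFF : br (fixV Φ (Subgroup.zpowers a)) (fixV Φ (Subgroup.zpowers a)) ≤
      fixV Φ (Subgroup.zpowers a) := by
    refine br_le fun x hx y hy b hb => ?_
    rw [hlie, hx b hb, hy b hb]
  have h2 := itr_of_der hFF M m hm (fun j => (hder _ hfix j).2) s hs
  have hiter : ∀ (n : ℕ) (x : L), (⇑(Φ a))^[n] x = Φ (a ^ n) x := by
    intro n
    induction n with
    | zero => intro x; rw [pow_zero, h1]; rfl
    | succ n ih => intro x; rw [Function.iterate_succ_apply, ih, ← hmul, pow_succ]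
  have h3 := der_eq_bot_of_aut (p := p) (Φ a) (hlie a) (fun x => by rw [hiter, hA, h1]) u hu
    (fixV Φ (Subgroup.zpowers a)) (by
      intro x hx b hb
      obtain ⟨k, rfl⟩ := Subgroup.mem_zpowers_iff.mp hb
      have hpow : ∀ n : ℕ, Φ (a ^ n) x = x := by
        intro n
        induction n with
        | zero => rw [pow_zero, h1]
        | succ n ih => rw [pow_succ, hmul, hx, ih]
      obtain ⟨n, rfl | rfl⟩ := Int.eq_nat_or_neg k
      · rw [zpow_natCast]; exact hpow n
      · have h2 := hpow n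
        have h3 : Φ (a ^ (-(n : ℤ))) (Φ (a ^ n) x) = x := by
          rw [← hmul, zpow_neg, zpow_natCast, inv_mul_cancel, h1]
        rwa [h2] at h3) _ h2
  exact itr_of_der le_top M m hm (fun j => (hder _ hT j).2) _ h3

end Cfsg.Agent.H476.LieBound
end

-- part: H476/GrSub
section
/-!
# The graded Lie ring of a group: subgroups and coprime action
-/

set_option autoImplicit false

namespace Cfsg.Agent.H476.GrSub

open Cfsg.Agent.H449 Cfsg.Agent.H476.Collect Cfsg.Agent.H476.AddHyper Cfsg.Agent.H476.LieBound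
open Cfsg.Agent.Lib.CoprimeHyperplane
open scoped commutatorElement

universe u

variable {K : Type u} [Group K]

/-- The image of `P ∩ H k` in `H k / H (k + 1)`. -/
noncomputable def grk (S : NSeries K) (P : Subgroup K) (k : ℕ) : AddSubgroup (S.W k) where
  carrier := {w | ∃ x ∈ P ⊓ S.H k, S.cls k x = w}
  zero_mem' := ⟨1, one_mem _, S.cls_one k⟩
  add_mem' := by
    rintro _ _ ⟨x, hx, rfl⟩ ⟨y, hy, rfl⟩
    exact ⟨x * y, mul_mem hx hy, S.cls_mul hx.2 hy.2⟩
  neg_mem' := by
    rintro _ ⟨x, hx, rfl⟩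
    exact ⟨x⁻¹, inv_mem hx, S.cls_inv hx.2⟩

theorem mem_grk {S : NSeries K} {P : Subgroup K} {k : ℕ} {w : S.W k} :
    w ∈ grk S P k ↔ ∃ x ∈ P ⊓ S.H k, S.cls k x = w := Iff.rfl

/-- The additive subgroup of the graded Lie ring defined by a subgroup. -/
noncomputable def gr (S : NSeries K) (P : Subgroup K) : AddSubgroup (GrLie S) where
  carrier := {f | ∀ k, f k ∈ grk S P k}
  zero_mem' := fun k => zero_mem (grk S P k)
  add_mem' := fun hf hg k => add_mem (hf k) (hg k)
  neg_mem' := fun hf k => neg_mem (hf k)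

theorem mem_gr {S : NSeries K} {P : Subgroup K} {f : GrLie S} : f ∈ gr S P ↔ ∀ k, f k ∈ grk S P k :=
  Iff.rfl

theorem gr_mono {S : NSeries K} {P Q : Subgroup K} (h : P ≤ Q) : gr S P ≤ gr S Q := by
  intro f hf k
  obtain ⟨x, hx, hx'⟩ := hf k
  exact ⟨x, ⟨h hx.1, hx.2⟩, hx'⟩

theorem gr_bot (S : NSeries K) : gr S (⊥ : Subgroup K) = ⊥ := by
  rw [eq_bot_iff]
  intro f hf
  rw [AddSubgroup.mem_bot]
  refine GrLie.ext S fun k => ?_
  obtain ⟨x, hx, hx'⟩ := hf k
  rw [← hx', Subgroup.mem_bot.mp hx.1, S.cls_one]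
  rfl

theorem gr_top (S : NSeries K) : gr S (⊤ : Subgroup K) = ⊤ := by
  rw [eq_top_iff]
  intro f _ k
  exact ⟨S.rep (f k), ⟨trivial, S.rep_mem _⟩, S.cls_rep _⟩

theorem lie_mem_gr {S : NSeries K} {P Q : Subgroup K} {f g : GrLie S} (hf : f ∈ gr S P)
    (hg : g ∈ gr S Q) : ⁅f, g⁆ ∈ gr S ⁅P, Q⁆ := by
  intro k
  rw [GrLie.lie_apply]
  apply sum_mem
  intro ij hij
  have h := Finset.HasAntidiagonal.mem_antidiagonal.mp hij
  obtain ⟨x, hx, hx'⟩ := hf ij.1
  obtain ⟨y, hy, hy'⟩ := hg ij.2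
  rw [← hx', ← hy', S.bk_cls h hx.2 hy.2]
  exact ⟨⁅x, y⁆, ⟨Subgroup.commutator_mem_commutator hx.1 hy.1, S.comm_mem h.ge hx.2 hy.2⟩, rfl⟩

theorem br_gr_le (S : NSeries K) (P Q : Subgroup K) : br (gr S P) (gr S Q) ≤ gr S ⁅P, Q⁆ :=
  br_le fun _ hf _ hg => lie_mem_gr hf hg

theorem itr_gr_le (S : NSeries K) (P Q : Subgroup K) (m : ℕ) :
    itr (gr S P) (gr S Q) m ≤ gr S (iterComm P Q m) := by
  induction m with
  | zero => exact le_rfl
  | succ m ih =>
    rw [itr_succ, iterComm_succ]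
    exact (br_mono ih le_rfl).trans (br_gr_le S _ _)

/-- The derived series of a subgroup. -/
def dS (H : Subgroup K) : ℕ → Subgroup K
  | 0 => H
  | k + 1 => ⁅dS H k, dS H k⁆

theorem dS_succ (H : Subgroup K) (k : ℕ) : dS H (k + 1) = ⁅dS H k, dS H k⁆ := rfl

theorem dS_mono {H H' : Subgroup K} (h : H ≤ H') (k : ℕ) : dS H k ≤ dS H' k := by
  induction k with
  | zero => exact h
  | succ k ih => exact Subgroup.commutator_mono ih ih

theorem dS_add (H : Subgroup K) (a b : ℕ) : dS H (a + b) = dS (dS H a) b := by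
  induction b with
  | zero => rfl
  | succ b ih => rw [← add_assoc, dS_succ, ih, dS_succ]

theorem dS_le (H : Subgroup K) (k : ℕ) : dS H k ≤ H := by
  induction k with
  | zero => exact le_rfl
  | succ k ih =>
    rw [dS_succ, Subgroup.commutator_le]
    intro x hx y hy
    have h1 := ih hx
    have h2 := ih hy
    exact mul_mem (mul_mem (mul_mem h1 h2) (inv_mem h1)) (inv_mem h2)

theorem dS_anti (H : Subgroup K) {a b : ℕ} (h : a ≤ b) : dS H b ≤ dS H a := by
  obtain ⟨c, rfl⟩ := Nat.exists_eq_add_of_le h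
  rw [dS_add]
  exact dS_le _ _

theorem dS_le_lcs (H : Subgroup K) (k : ℕ) : dS H k ≤ H.lowerCentralSeries k := by
  induction k with
  | zero => exact le_rfl
  | succ k ih =>
    rw [dS_succ, Subgroup.lowerCentralSeries_succ]
    exact Subgroup.commutator_mono ih (dS_le H k)

theorem der_gr_le (S : NSeries K) (P : Subgroup K) (k : ℕ) : der (gr S P) k ≤ gr S (dS P k) := by
  induction k with
  | zero => exact le_rfl
  | succ k ih =>
    rw [der_succ, dS_succ]
    exact (br_mono ih ih).trans (br_gr_le S _ _)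

theorem der_mono' {L : Type*} [LieRing L] {S T : AddSubgroup L} (h : S ≤ T) (k : ℕ) :
    der S k ≤ der T k := der_mono h k

/-! ### Action -/

section Action

variable {A : Type*} [CommGroup A] (φ : A →* MulAut K)

theorem lcs_inv (a : A) : ∀ k, ∀ x ∈ (lcsSeries K).H k, (φ a).toMonoidHom x ∈ (lcsSeries K).H k := by
  intro k x hx
  have h1 : (φ a).toMonoidHom x ∈ ((⊤ : Subgroup K).lowerCentralSeries (k - 1)).map (φ a).toMonoidHom :=
    ⟨x, hx, rfl⟩
  rw [Subgroup.map_lowerCentralSeries] at h1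
  exact Subgroup.lowerCentralSeries_mono _ le_top h1

/-- The action on the graded Lie ring. -/
noncomputable def Phi (a : A) : GrLie (lcsSeries K) →+ GrLie (lcsSeries K) :=
  GrLie.map (lcsSeries K) (lcs_inv φ a)

theorem Phi_apply (a : A) (f : GrLie (lcsSeries K)) {k : ℕ} {x : K} (hx : x ∈ (lcsSeries K).H k)
    (h : f k = (lcsSeries K).cls k x) : Phi φ a f k = (lcsSeries K).cls k (φ a x) := by
  rw [Phi, GrLie.map_apply, h, (lcsSeries K).mapW_cls (lcs_inv φ a) hx]
  rfl

theorem Phi_one (f : GrLie (lcsSeries K)) : Phi φ 1 f = f := by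
  refine GrLie.ext _ fun k => ?_
  rw [Phi_apply φ 1 f ((lcsSeries K).rep_mem (f k)) ((lcsSeries K).cls_rep _).symm, map_one,
    MulAut.one_apply, (lcsSeries K).cls_rep]

theorem Phi_mul (a b : A) (f : GrLie (lcsSeries K)) : Phi φ (a * b) f = Phi φ a (Phi φ b f) := by
  refine GrLie.ext _ fun k => ?_
  have hm := (lcsSeries K).rep_mem (f k)
  rw [Phi_apply φ (a * b) f hm ((lcsSeries K).cls_rep _).symm,
    Phi_apply φ a (Phi φ b f) (lcs_inv φ b k _ hm)
      (Phi_apply φ b f hm ((lcsSeries K).cls_rep _).symm), map_mul, MulAut.mul_apply]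
  rfl

theorem Phi_lie (a : A) (f g : GrLie (lcsSeries K)) : Phi φ a ⁅f, g⁆ = ⁅Phi φ a f, Phi φ a g⁆ :=
  GrLie.map_lie _ _ f g

theorem gr_invariant {P : Subgroup K} (hP : ∀ a, ∀ x ∈ P, φ a x ∈ P) :
    ∀ a, ∀ f ∈ gr (lcsSeries K) P, Phi φ a f ∈ gr (lcsSeries K) P := by
  intro a f hf k
  obtain ⟨x, hx, hx'⟩ := hf k
  rw [Phi_apply φ a f hx.2 hx'.symm]
  exact ⟨φ a x, ⟨hP a x hx.1, lcs_inv φ a k x hx.2⟩, rfl⟩

theorem fix_gr {p : ℕ} [Fact p.Prime] [Finite K] (hK : ¬ p ∣ Nat.card K) {B : Subgroup A}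
    (hB : IsPGroup p B) {P : Subgroup K} (hP : ∀ a, ∀ x ∈ P, φ a x ∈ P) :
    gr (lcsSeries K) P ⊓ fixV (Phi φ) B ≤ gr (lcsSeries K) (P ⊓ fix φ B) := by
  rintro f ⟨hf, hfB⟩ k
  obtain ⟨x, hx, hx'⟩ := hf k
  have hN : ¬ p ∣ Nat.card (P ⊓ (lcsSeries K).H (k + 1) : Subgroup K) := fun h =>
    hK (h.trans (Subgroup.card_subgroup_dvd_card _))
  have hNinv : ∀ b ∈ B, ∀ y ∈ P ⊓ (lcsSeries K).H (k + 1), φ b y ∈ P ⊓ (lcsSeries K).H (k + 1) := fun b _ y hy =>
    ⟨hP b y hy.1, lcs_inv φ b _ y hy.2⟩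
  have hxN : ∀ b ∈ B, x⁻¹ * φ b x ∈ P ⊓ (lcsSeries K).H (k + 1) := by
    intro b hb
    refine ⟨P.mul_mem (P.inv_mem hx.1) (hP b x hx.1), ?_⟩
    have h1 : Phi φ b f k = f k := by rw [hfB b hb]
    rw [Phi_apply φ b f hx.2 hx'.symm, ← hx'] at h1
    have h2 := ((lcsSeries K).cls_eq_iff (lcs_inv φ b k x hx.2) hx.2).mp h1
    have h3 := (lcsSeries K).conj_mem h2 x⁻¹
    have h4 : x⁻¹ * ((φ b).toMonoidHom x * x⁻¹) * x⁻¹⁻¹ = x⁻¹ * φ b x := by
      change x⁻¹ * (φ b x * x⁻¹) * x⁻¹⁻¹ = x⁻¹ * φ b x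
      group
    rw [h4] at h3
    exact h3
  obtain ⟨y, hy, hxy⟩ := exists_fixed_in_coset φ hB hN hNinv x hxN
  have hyP : y ∈ P := by
    have := mul_mem hx.1 hxy.1
    rwa [mul_inv_cancel_left] at this
  have hyH : y ∈ (lcsSeries K).H k := by
    have := mul_mem hx.2 ((lcsSeries K).anti (Nat.le_succ k) hxy.2)
    rwa [mul_inv_cancel_left] at this
  refine ⟨y, ⟨⟨hyP, hy⟩, hyH⟩, ?_⟩
  rw [← hx', ← mul_inv_cancel_left x y, (lcsSeries K).cls_mul hx.2 ((lcsSeries K).anti (Nat.le_succ k) hxy.2),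
    (lcsSeries K).cls_eq_zero hxy.2, add_zero]

end Action

theorem nsmul_gr_apply (S : NSeries K) (n : ℕ) (f : GrLie S) (k : ℕ) : (n • f) k = n • f k := rfl

/-- `p` is invertible on the graded Lie ring of a finite `p'`-group. -/
theorem exists_inv [Finite K] {p : ℕ} (hp : p.Prime) (hK : ¬ p ∣ Nat.card K) (S : NSeries K) :
    ∃ u : ℕ, ∀ f : GrLie S, (u * p) • f = f := by
  have hcop : Nat.Coprime p (Nat.card K) := (Nat.Prime.coprime_iff_not_dvd hp).mpr hK
  have htot : 0 < Nat.totient (Nat.card K) := Nat.totient_pos.mpr Nat.card_pos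
  refine ⟨p ^ (Nat.totient (Nat.card K) - 1), fun f => ?_⟩
  have e : p ^ (Nat.totient (Nat.card K) - 1) * p = p ^ (Nat.totient (Nat.card K)) := by
    rw [← pow_succ]; congr 1; omega
  rw [e]
  refine GrLie.ext S fun k => ?_
  rw [nsmul_gr_apply, ← S.cls_rep (f k), ← S.cls_pow (S.rep_mem _)]
  congr 1
  have h1 : p ^ (Nat.totient (Nat.card K)) ≡ 1 [MOD orderOf (S.rep (f k))] :=
    (Nat.ModEq.pow_totient hcop).of_dvd (_root_.orderOf_dvd_natCard _)
  have h2 := (pow_eq_pow_iff_modEq (x := S.rep (f k))).mpr h1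
  rw [h2, pow_one]

/-! ### Generation in degree one -/

/-- The homogeneous component of degree `k`. -/
noncomputable def comp (S : NSeries K) (k : ℕ) : AddSubgroup (GrLie S) where
  carrier := {f | ∀ l, l ≠ k → f l = 0}
  zero_mem' := fun l _ => rfl
  add_mem' := fun {f g} hf hg l hl => by rw [GrLie.add_apply, hf l hl, hg l hl, add_zero]
  neg_mem' := fun {f} hf l hl => by
    change - f l = 0
    rw [hf l hl, neg_zero]

theorem single_mem_comp (S : NSeries K) (k : ℕ) (w : S.W k) : GrLie.single S k w ∈ comp S k :=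
  fun _ hl => GrLie.single_of_ne S hl w

theorem eq_single_of_mem_comp {S : NSeries K} {k : ℕ} {f : GrLie S} (hf : f ∈ comp S k) :
    f = GrLie.single S k (f k) := by
  refine GrLie.ext S fun l => ?_
  by_cases hl : l = k
  · subst hl; rw [GrLie.single_same]
  · rw [hf l hl, GrLie.single_of_ne S hl]

theorem comp_succ_le (k : ℕ) :
    comp (lcsSeries K) (k + 1 + 1) ≤ br (comp (lcsSeries K) (k + 1)) (comp (lcsSeries K) 1) := by
  intro f hf
  rw [eq_single_of_mem_comp hf, ← (lcsSeries K).cls_rep (f (k + 1 + 1))]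
  have hm := (lcsSeries K).rep_mem (f (k + 1 + 1))
  generalize (lcsSeries K).rep (f (k + 1 + 1)) = x at hm
  change x ∈ Subgroup.closure {z | ∃ y ∈ (⊤ : Subgroup K).lowerCentralSeries k,
    ∃ g ∈ (⊤ : Subgroup K), ⁅y, g⁆ = z} at hm
  induction hm using Subgroup.closure_induction with
  | mem x hx =>
    obtain ⟨y, hy, g, hg, rfl⟩ := hx
    have hy' : y ∈ (lcsSeries K).H (k + 1) := hy
    have hg' : g ∈ (lcsSeries K).H 1 := hg
    rw [← (lcsSeries K).bk_cls (i := k + 1) (j := 1) rfl hy' hg', ← GrLie.lie_single (lcsSeries K) rfl]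
    exact lie_mem_br (single_mem_comp (lcsSeries K) _ _) (single_mem_comp (lcsSeries K) _ _)
  | one => rw [(lcsSeries K).cls_one, GrLie.single_zero]; exact zero_mem _
  | mul x y hx hy h1 h2 =>
    rw [(lcsSeries K).cls_mul (k := k + 1 + 1) hx hy, GrLie.single_add]
    exact add_mem h1 h2
  | inv x hx h1 =>
    rw [(lcsSeries K).cls_inv (k := k + 1 + 1) hx, GrLie.single_neg]
    exact neg_mem h1

theorem comp_zero_le : comp (lcsSeries K) 0 = ⊥ := by
  rw [eq_bot_iff]
  intro f hf
  rw [AddSubgroup.mem_bot, eq_single_of_mem_comp hf, ← (lcsSeries K).cls_rep (f 0),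
    (lcsSeries K).cls_eq_zero (by rw [zero_add, (lcsSeries K).one]; trivial), GrLie.single_zero]

/-- If the subgroups `P i` generate `K`, the degree one component is generated by the `gr (P i)`. -/
theorem comp_one_le {ι : Type*} (P : ι → Subgroup K) (hP : ⨆ i, P i = ⊤) :
    comp (lcsSeries K) 1 ≤ ⨆ i, comp (lcsSeries K) 1 ⊓ gr (lcsSeries K) (P i) := by
  intro f hf
  rw [eq_single_of_mem_comp hf, ← (lcsSeries K).cls_rep (f 1)]
  have hm : (lcsSeries K).rep (f 1) ∈ ⨆ i, P i := by rw [hP]; trivial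
  generalize (lcsSeries K).rep (f 1) = x at hm
  induction hm using Subgroup.iSup_induction' with
  | hp i x hx =>
    refine AddSubgroup.mem_iSup_of_mem i ⟨single_mem_comp (lcsSeries K) _ _, fun k => ?_⟩
    by_cases hk : k = 1
    · subst hk
      rw [GrLie.single_same]
      exact ⟨x, ⟨hx, trivial⟩, rfl⟩
    · rw [GrLie.single_of_ne (lcsSeries K) hk]
      exact zero_mem _
  | h1 => rw [(lcsSeries K).cls_one, GrLie.single_zero]; exact zero_mem _
  | hmul x y _ _ h1 h2 =>
    rw [(lcsSeries K).cls_mul (k := 1) (by trivial) (by trivial), GrLie.single_add]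
    exact add_mem h1 h2

theorem top_le_iSup_comp {n : ℕ} (hn : (⊤ : Subgroup K).lowerCentralSeries n = ⊥) :
    (⊤ : AddSubgroup (GrLie (lcsSeries K))) ≤ ⨆ k, comp (lcsSeries K) k := by
  intro f _
  have h0 : ∀ k, n + 1 ≤ k → f k = 0 := by
    intro k hk
    rw [← (lcsSeries K).cls_rep (f k)]
    have h1 : (lcsSeries K).rep (f k) ∈ (lcsSeries K).H (n + 1) := (lcsSeries K).anti hk ((lcsSeries K).rep_mem _)
    have h2 : (lcsSeries K).rep (f k) = 1 := by
      have h3 : (lcsSeries K).rep (f k) ∈ (⊤ : Subgroup K).lowerCentralSeries n := h1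
      rw [hn] at h3
      exact Subgroup.mem_bot.mp h3
    rw [h2, (lcsSeries K).cls_one]
  have h1 : f = ∑ k ∈ Finset.range (n + 1), GrLie.single (lcsSeries K) k (f k) := by
    refine GrLie.ext (lcsSeries K) fun l => ?_
    have h2 : (∑ k ∈ Finset.range (n + 1), GrLie.single (lcsSeries K) k (f k)) l =
        ∑ k ∈ Finset.range (n + 1), GrLie.single (lcsSeries K) k (f k) l :=
      Finset.sum_apply l (Finset.range (n + 1)) (fun k => GrLie.single (lcsSeries K) k (f k))
    rw [h2]
    by_cases hl : l < n + 1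
    · rw [Finset.sum_eq_single_of_mem l (Finset.mem_range.mpr hl), GrLie.single_same]
      intro k _ hk
      exact GrLie.single_of_ne (lcsSeries K) (Ne.symm hk) _
    · rw [h0 l (by omega), Finset.sum_eq_zero]
      intro k hk
      have := Finset.mem_range.mp hk
      exact GrLie.single_of_ne (lcsSeries K) (by omega) _
  rw [h1]
  exact sum_mem fun k _ => AddSubgroup.mem_iSup_of_mem k (single_mem_comp (lcsSeries K) k _)

theorem single_mem_itr (k : ℕ) : ∀ x ∈ (lcsSeries K).H (k + 1),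
    GrLie.single (lcsSeries K) (k + 1) ((lcsSeries K).cls (k + 1) x) ∈
      itr (⊤ : AddSubgroup (GrLie (lcsSeries K))) ⊤ k := by
  induction k with
  | zero => intro x _; trivial
  | succ k ih =>
    intro x hx
    change x ∈ Subgroup.closure {z | ∃ y ∈ (⊤ : Subgroup K).lowerCentralSeries k,
      ∃ g ∈ (⊤ : Subgroup K), ⁅y, g⁆ = z} at hx
    induction hx using Subgroup.closure_induction with
    | mem x hx =>
      obtain ⟨y, hy, g, hg, rfl⟩ := hx
      have hy' : y ∈ (lcsSeries K).H (k + 1) := hy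
      have hg' : g ∈ (lcsSeries K).H 1 := hg
      rw [← (lcsSeries K).bk_cls (i := k + 1) (j := 1) rfl hy' hg',
        ← GrLie.lie_single (lcsSeries K) rfl]
      exact lie_mem_br (ih y hy') trivial
    | one => rw [(lcsSeries K).cls_one, GrLie.single_zero]; exact zero_mem _
    | mul x y hx hy h1 h2 =>
      rw [(lcsSeries K).cls_mul (k := k + 1 + 1) hx hy, GrLie.single_add]
      exact add_mem h1 h2
    | inv x hx h1 =>
      rw [(lcsSeries K).cls_inv (k := k + 1 + 1) hx, GrLie.single_neg]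
      exact neg_mem h1

/-- Class of a nilpotent group from the class of its graded Lie ring. -/
theorem lcs_eq_bot_of_itr (hK : Group.IsNilpotent K) {h : ℕ}
    (hh : itr (⊤ : AddSubgroup (GrLie (lcsSeries K))) ⊤ h = ⊥) :
    (⊤ : Subgroup K).lowerCentralSeries h = ⊥ := by
  have h1 : (⊤ : Subgroup K).lowerCentralSeries h ≤ (⊤ : Subgroup K).lowerCentralSeries (h + 1) := by
    intro x hx
    have hx' : x ∈ (lcsSeries K).H (h + 1) := hx
    have h2 := single_mem_itr h x hx'
    rw [hh, AddSubgroup.mem_bot] at h2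
    have h3 : (lcsSeries K).cls (h + 1) x = 0 := by
      have h4 := congrArg (fun f : GrLie (lcsSeries K) => f (h + 1)) h2
      beta_reduce at h4
      rw [GrLie.single_same] at h4
      exact h4
    exact (lcsSeries K).mem_of_cls_eq_zero hx' h3
  have h2 : ∀ j, (⊤ : Subgroup K).lowerCentralSeries h ≤
      (⊤ : Subgroup K).lowerCentralSeries (h + j) := by
    intro j
    induction j with
    | zero => exact le_rfl
    | succ j ih =>
      refine h1.trans ?_
      rw [Subgroup.lowerCentralSeries_succ, ← add_assoc, Subgroup.lowerCentralSeries_succ]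
      exact Subgroup.commutator_mono ih le_rfl
  obtain ⟨c, hc⟩ := Subgroup.nilpotent_iff_lowerCentralSeries.mp hK
  rw [eq_bot_iff, ← hc]
  exact (h2 c).trans (Subgroup.lowerCentralSeries_antitone ⊤ (Nat.le_add_left c h))

/-! ### The theorem -/

/-- **Theorem.** Bound for the class of a nilpotent group `K` with a coprime action of an elementary abelian group. -/
theorem class_bound {A : Type*} [CommGroup A] [Finite A] [Nontrivial A] [Finite K] {p : ℕ} [Fact p.Prime]
    (hA : ∀ a : A, a ^ p = 1) (hK : ¬ p ∣ Nat.card K) (hnil : Group.IsNilpotent K) (φ : A →* MulAut K)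
    {ι : Type*} [Fintype ι] (P : ι → Subgroup K) (hP : ∀ i, ∀ a, ∀ x ∈ P i, φ a x ∈ P i)
    (hsup : ⨆ i, P i = ⊤)
    (hC : ∀ i j, ∀ B : Subgroup A, B.index = p → ∃ r, ⁅P i, P j⁆ ⊓ fix φ B ≤ P r)
    (m : ℕ) (hm : ∀ i, ∃ E : Subgroup A, E ≠ ⊥ ∧ ∀ E' : Subgroup A, E' ≤ E → E'.relIndex E = p →
      iterComm (fix φ E') (P i) m = ⊥)
    (a : A) (s : ℕ) (hs : dS (fix φ (Subgroup.zpowers a)) s = ⊥) :
    (⊤ : Subgroup K).lowerCentralSeries (bnd p (Fintype.card ι) m s) = ⊥ := by
  have hpp : p.Prime := Fact.out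
  have hpA : IsPGroup p A := fun a => ⟨1, by rw [pow_one]; exact hA a⟩
  obtain ⟨u, hu⟩ := exists_inv hpp hK (lcsSeries K)
  apply lcs_eq_bot_of_itr hnil
  let M : ι → AddSubgroup (GrLie (lcsSeries K)) := fun i => gr (lcsSeries K) (P i)
  have hMinv : ∀ i, ∀ a, ∀ x ∈ M i, Phi φ a x ∈ M i := fun i => gr_invariant φ (hP i)
  have hcomm : ∀ i j, ∀ a, ∀ x ∈ ⁅P i, P j⁆, φ a x ∈ ⁅P i, P j⁆ := by
    intro i j a
    have h1 : ⁅P i, P j⁆ ≤ ⁅P i, P j⁆.comap (φ a).toMonoidHom := by
      rw [Subgroup.commutator_le]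
      intro x hx y hy
      rw [Subgroup.mem_comap, map_commutatorElement]
      exact Subgroup.commutator_mem_commutator (hP i a x hx) (hP j a y hy)
    exact h1
  have hCM : ∀ i j, ∀ B : Subgroup A, B.index = p → ∃ r, br (M i) (M j) ⊓ fixV (Phi φ) B ≤ M r := by
    intro i j B hB
    obtain ⟨r, hr⟩ := hC i j B hB
    refine ⟨r, ?_⟩
    refine (inf_le_inf_right _ (br_gr_le (lcsSeries K) (P i) (P j))).trans ?_
    exact (fix_gr φ hK (hpA.to_subgroup B) (hcomm i j)).trans (gr_mono hr)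
  have hmM : ∀ i, itr ⊤ (M i) m = ⊥ := by
    intro i
    obtain ⟨E, hE, hE'⟩ := hm i
    have : Nontrivial E := (Subgroup.nontrivial_iff_ne_bot E).mpr hE
    have h1 := le_iSup_fixV (A := E) (fun b : E => Phi φ (b : A)) (Phi_one φ)
      (fun a b x => Phi_mul φ a b x) (p := p) (fun b => Subtype.ext (hA b)) u hu ⊤
      (fun _ _ _ => trivial)
    rw [eq_bot_iff]
    refine (itr_mono h1 le_rfl m).trans ?_
    have h2 : ∀ (κ : Type _) (N : κ → AddSubgroup (GrLie (lcsSeries K))) (T : AddSubgroup (GrLie (lcsSeries K))) (n : ℕ),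
        itr (⨆ k, N k) T n ≤ ⨆ k, itr (N k) T n := by
      intro κ N T n
      induction n with
      | zero => exact le_rfl
      | succ n ih => exact (br_mono ih le_rfl).trans (br_iSup_left _ _)
    refine (h2 _ _ _ m).trans (iSup_le ?_)
    rintro ⟨B, hB⟩
    have h3 : (B.map E.subtype).relIndex E = p := by
      rw [Subgroup.relIndex, Subgroup.subgroupOf,
        Subgroup.comap_map_eq_self_of_injective (Subgroup.subtype_injective E)]
      exact hB
    have h4 := hE' _ (Subgroup.map_subtype_le B) h3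
    have h5 : (⊤ : AddSubgroup (GrLie (lcsSeries K))) ⊓ fixV (fun b : E => Phi φ (b : A)) B ≤
        gr (lcsSeries K) (fix φ (B.map E.subtype)) := by
      have h6 : fixV (fun b : E => Phi φ (b : A)) B ≤ fixV (Phi φ) (B.map E.subtype) := by
        rintro f hf _ ⟨b, hb, rfl⟩
        exact hf b hb
      have h7 := fix_gr φ hK (hpA.to_subgroup (B.map E.subtype)) (P := ⊤) (fun _ _ _ => trivial)
      rw [gr_top, top_inf_eq, top_inf_eq] at h7
      rw [top_inf_eq]
      exact h6.trans h7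
    refine (itr_mono h5 le_rfl m).trans ((itr_gr_le (lcsSeries K) _ _ m).trans ?_)
    rw [h4, gr_bot]
  -- the whole Lie ring is good
  obtain ⟨c, hc⟩ := Subgroup.nilpotent_iff_lowerCentralSeries.mp hnil
  have hcompinv : ∀ k, ∀ a, ∀ f ∈ comp (lcsSeries K) k, Phi φ a f ∈ comp (lcsSeries K) k := by
    intro k a f hf l hl
    rw [Phi_apply φ a f (x := 1) (one_mem _) (by rw [hf l hl, (lcsSeries K).cls_one]), map_one, (lcsSeries K).cls_one]
  have hbrinv : ∀ k, Good (Phi φ) M (comp (lcsSeries K) k) := by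
    intro k
    rcases Nat.eq_zero_or_pos k with rfl | hk
    · refine ⟨hcompinv 0, ?_⟩
      rw [comp_zero_le]
      exact bot_le
    · obtain ⟨n, rfl⟩ : ∃ n, k = n + 1 := ⟨k - 1, by omega⟩
      clear hk
      induction n with
      | zero => exact ⟨hcompinv 1, comp_one_le P hsup⟩
      | succ n ih =>
        have h1 := good_br (Phi φ) M hA (Phi_one φ) (Phi_mul φ) (Phi_lie φ) u hu hMinv hCM ih
          ⟨hcompinv 1, comp_one_le P hsup⟩
        have h2 : br (comp (lcsSeries K) (n + 1)) (comp (lcsSeries K) 1) ≤ comp (lcsSeries K) (n + 1 + 1) := by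
          refine br_le fun f hf g hg => ?_
          rw [eq_single_of_mem_comp hf, eq_single_of_mem_comp hg, GrLie.lie_single (lcsSeries K) rfl]
          exact single_mem_comp (lcsSeries K) _ _
        have h3 : comp (lcsSeries K) (n + 1 + 1) = br (comp (lcsSeries K) (n + 1)) (comp (lcsSeries K) 1) := le_antisymm (comp_succ_le n) h2
        rw [h3]
        exact h1
  have hT : Good (Phi φ) M ⊤ := by
    have h1 := good_iSup (Phi φ) M hbrinv
    have h2 : (⨆ k, comp (lcsSeries K) k) = ⊤ := top_le_iff.mp (top_le_iSup_comp hc)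
    rwa [h2] at h1
  have hsL : der (fixV (Phi φ) (Subgroup.zpowers a)) s = ⊥ := by
    have h7 := fix_gr φ hK (hpA.to_subgroup (Subgroup.zpowers a)) (P := ⊤) (fun _ _ _ => trivial)
    rw [gr_top, top_inf_eq, top_inf_eq] at h7
    rw [eq_bot_iff]
    refine (der_mono h7 s).trans ((der_gr_le (lcsSeries K) _ s).trans ?_)
    rw [hs, gr_bot]
  exact itr_top_top (Phi φ) M hA (Phi_one φ) (Phi_mul φ) (Phi_lie φ) u hu hMinv hCM m hmM hT a s hsL

end Cfsg.Agent.H476.GrSub
end

-- part: H476/Special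
section
/-!
# `A`-special subgroups

For a commutator word `w` the `A`-special subgroups generate the verbal subgroup.
-/

set_option autoImplicit false

namespace Cfsg.Agent.H476.Special

open Cfsg.Agent.Lib.CoprimeHyperplane Cfsg.Agent.H476.CopAct Cfsg.Agent.H476.GrSub
open scoped commutatorElement

/-- Commutator words. -/
inductive Wd : Type
  | x : Wd
  | br : Wd → Wd → Wd

/-- The subgroup `w(U, …, U)`. -/
def ev {G : Type*} [Group G] : Wd → Subgroup G → Subgroup G
  | .x, U => U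
  | .br w v, U => ⁅ev w U, ev v U⁆

/-- The number of leaves. -/
def leaves : Wd → ℕ
  | .x => 1
  | .br w v => leaves w + leaves v

/-- The depth. -/
def depth : Wd → ℕ
  | .x => 0
  | .br w v => max (depth w) (depth v) + 1

/-- The words `γ_{j+1}` and `δ_j`. -/
def W (b : Bool) : ℕ → Wd
  | 0 => .x
  | j + 1 => .br (W b j) (if b then .x else W b j)

theorem leaves_W_true (j : ℕ) : leaves (W true j) = j + 1 := by
  induction j with
  | zero => rfl
  | succ j ih => simp [W, leaves, ih]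

theorem leaves_W_false (j : ℕ) : leaves (W false j) = 2 ^ j := by
  induction j with
  | zero => rfl
  | succ j ih => simp [W, leaves, ih, pow_succ]; ring

section Ev

variable {G : Type*} [Group G]

theorem ev_x (U : Subgroup G) : ev .x U = U := rfl

theorem ev_br (w v : Wd) (U : Subgroup G) : ev (.br w v) U = ⁅ev w U, ev v U⁆ := rfl

theorem ev_mono {U V : Subgroup G} (h : U ≤ V) (w : Wd) : ev w U ≤ ev w V := by
  induction w with
  | x => exact h
  | br w v ih1 ih2 => exact Subgroup.commutator_mono ih1 ih2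

theorem ev_le (w : Wd) (U : Subgroup G) : ev w U ≤ U := by
  induction w with
  | x => exact le_rfl
  | br w v ih1 ih2 =>
    rw [ev_br, Subgroup.commutator_le]
    intro x hx y hy
    have h1 := ih1 hx
    have h2 := ih2 hy
    exact mul_mem (mul_mem (mul_mem h1 h2) (inv_mem h1)) (inv_mem h2)

theorem ev_map {H : Type*} [Group H] (f : G →* H) (w : Wd) (U : Subgroup G) :
    (ev w U).map f = ev w (U.map f) := by
  induction w with
  | x => rfl
  | br w v ih1 ih2 => rw [ev_br, ev_br, Subgroup.map_commutator, ih1, ih2]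

/-- `U` normalizes `w(U)`. -/
theorem ev_conj (w : Wd) (U : Subgroup G) {g x : G} (hg : g ∈ U) (hx : x ∈ ev w U) :
    g * x * g⁻¹ ∈ ev w U := by
  have h1 : (ev w U).map (MulAut.conj g).toMonoidHom = ev w U := by
    rw [ev_map]
    congr 1
    apply le_antisymm
    · rintro _ ⟨y, hy, rfl⟩
      exact mul_mem (mul_mem hg hy) (inv_mem hg)
    · intro y hy
      refine ⟨g⁻¹ * y * g, mul_mem (mul_mem (inv_mem hg) hy) hg, ?_⟩
      change g * (g⁻¹ * y * g) * g⁻¹ = y
      group
  have h2 : g * x * g⁻¹ ∈ (ev w U).map (MulAut.conj g).toMonoidHom := ⟨x, hx, rfl⟩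
  rwa [h1] at h2

theorem dS_depth_le (w : Wd) (U : Subgroup G) : dS U (depth w) ≤ ev w U := by
  induction w with
  | x => exact le_rfl
  | br w v ih1 ih2 =>
    change dS U (max (depth w) (depth v) + 1) ≤ _
    rw [dS_succ, ev_br]
    exact Subgroup.commutator_mono ((dS_anti U (le_max_left _ _)).trans ih1)
      ((dS_anti U (le_max_right _ _)).trans ih2)

theorem ev_W_true (j : ℕ) (U : Subgroup G) : ev (W true j) U = U.lowerCentralSeries j := by
  induction j with
  | zero => rfl
  | succ j ih =>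
    rw [Subgroup.lowerCentralSeries_succ, ← ih]
    rfl

theorem ev_W_false (j : ℕ) (U : Subgroup G) : ev (W false j) U = dS U j := by
  induction j with
  | zero => rfl
  | succ j ih =>
    rw [dS_succ, ← ih]
    rfl

end Ev

variable {A G : Type*} [CommGroup A] [Group G] (φ : A →* MulAut G) (p : ℕ)

theorem ev_inv {U : Subgroup G} (hU : ∀ a, ∀ x ∈ U, φ a x ∈ U) (w : Wd) :
    ∀ a, ∀ x ∈ ev w U, φ a x ∈ ev w U := by
  induction w with
  | x => exact hU
  | br w v ih1 ih2 => exact commutator_inv φ ih1 ih2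

/-- The index set of the special subgroups. -/
def Ix (A : Type*) [Group A] (p : ℕ) : Wd → Type _
  | .x => {B : Subgroup A // B.index = p}
  | .br w v => Ix A p w × Ix A p v × {B : Subgroup A // B.index = p}

theorem finite_Ix (A : Type*) [Group A] [Finite A] (p : ℕ) : ∀ w, Finite (Ix A p w)
  | .x => (inferInstance : Finite {B : Subgroup A // B.index = p})
  | .br w v => by
    have := finite_Ix A p w
    have := finite_Ix A p v
    exact (inferInstance : Finite (Ix A p w × Ix A p v × {B : Subgroup A // B.index = p}))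

/-- The number of special subgroups. -/
def cb (h : ℕ) : Wd → ℕ
  | .x => h
  | .br w v => cb h w * (cb h v * h)

theorem card_Ix (A : Type*) [Group A] [Finite A] (p : ℕ) : ∀ w, Nat.card (Ix A p w) =
    cb (Nat.card {B : Subgroup A // B.index = p}) w
  | .x => rfl
  | .br w v => by
    change Nat.card (Ix A p w × Ix A p v × {B : Subgroup A // B.index = p}) = _
    rw [Nat.card_prod, Nat.card_prod, card_Ix A p w, card_Ix A p v]
    rfl

/-- The special subgroups. -/
def Sp : (w : Wd) → Ix A p w → Subgroup G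
  | .x, B => fix φ B.1
  | .br w v, i => ⁅Sp w i.1, Sp v i.2.1⁆ ⊓ fix φ i.2.2.1

/-- A subgroup of `A` attached to a special subgroup. -/
def Bx : (w : Wd) → Ix A p w → Subgroup A
  | .x, B => B.1
  | .br w v, i => Bx w i.1 ⊓ Bx v i.2.1

theorem Sp_inv (w : Wd) (i : Ix A p w) : ∀ a, ∀ x ∈ Sp φ p w i, φ a x ∈ Sp φ p w i := by
  induction w with
  | x => exact fun a x hx => fix_invariant φ i.1 a hx
  | br w v ih1 ih2 =>
    intro a x hx
    exact ⟨commutator_inv φ (ih1 i.1) (ih2 i.2.1) a x hx.1, fix_invariant φ i.2.2.1 a hx.2⟩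

theorem Sp_le_ev (w : Wd) (i : Ix A p w) : Sp φ p w i ≤ ev w (fix φ (Bx p w i)) := by
  induction w with
  | x => exact le_rfl
  | br w v ih1 ih2 =>
    refine inf_le_left.trans ?_
    rw [ev_br]
    refine Subgroup.commutator_mono ((ih1 i.1).trans (ev_mono ?_ w)) ((ih2 i.2.1).trans (ev_mono ?_ v))
    · exact fix_anti φ inf_le_left
    · exact fix_anti φ inf_le_right

theorem Bx_index (hp : 0 < p) (w : Wd) (i : Ix A p w) : (Bx p w i).index ≤ p ^ leaves w := by
  induction w with
  | x =>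
    change i.1.index ≤ p ^ 1
    rw [i.2, pow_one]
  | br w v ih1 ih2 =>
    change (Bx p w i.1 ⊓ Bx p v i.2.1).index ≤ p ^ (leaves w + leaves v)
    rw [pow_add]
    exact Subgroup.index_inf_le.trans (Nat.mul_le_mul (ih1 i.1) (ih2 i.2.1))

theorem Sp_le_fix (w : Wd) (i : Ix A p w) : ∃ B : {B : Subgroup A // B.index = p},
    Sp φ p w i ≤ fix φ B.1 := by
  cases w with
  | x => exact ⟨i, le_rfl⟩
  | br w v => exact ⟨i.2.2, inf_le_right⟩

/-- Each special subgroup for `w` lies in a special subgroup for `v`. -/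
def Dom (w v : Wd) : Prop := ∀ i : Ix A p w, ∃ l : Ix A p v, Sp φ p w i ≤ Sp φ p v l

theorem Dom_x (w : Wd) : Dom φ p w .x := fun i => Sp_le_fix φ p w i

theorem Dom_refl (w : Wd) : Dom φ p w w := fun i => ⟨i, le_rfl⟩

theorem Dom_br {w v w' v' : Wd} (h : Dom φ p w w') (h' : Dom φ p v v') :
    Dom φ p (.br w v) (.br w' v') := by
  intro i
  obtain ⟨a, ha⟩ := h i.1
  obtain ⟨b, hb⟩ := h' i.2.1
  exact ⟨(a, b, i.2.2), inf_le_inf_right _ (Subgroup.commutator_mono ha hb)⟩

theorem Dom_W (b : Bool) (j : ℕ) : Dom φ p (W b (j + 1)) (W b j) := by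
  induction j with
  | zero => exact Dom_x φ p _
  | succ j ih =>
    apply Dom_br φ p ih
    cases b with
    | true => exact Dom_refl φ p _
    | false => exact ih

theorem Dom_W' (b : Bool) (j : ℕ) : Dom φ p (W b j) (if b then .x else W b j) := by
  cases b with
  | true => exact Dom_x φ p _
  | false => exact Dom_refl φ p _

/-- The special subgroups generate the verbal subgroup: the step. -/
theorem iSup_Sp_step [Fact p.Prime] [Finite A] [Nontrivial A] (hA : ∀ a : A, a ^ p = 1)
    [Finite G] (hG : ¬ p ∣ Nat.card G) {w v : Wd} (h1 : Dom φ p w v) (h2 : Dom φ p (.br w v) w)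
    (hw : ⨆ i, Sp φ p w i = ev w ⊤) (hv : ⨆ i, Sp φ p v i = ev v ⊤) :
    ⨆ i, Sp φ p (.br w v) i = ev (.br w v) ⊤ := by
  apply le_antisymm
  · refine iSup_le fun i => inf_le_left.trans ?_
    rw [ev_br, ← hw, ← hv]
    exact Subgroup.commutator_mono (le_iSup (Sp φ p w) i.1) (le_iSup (Sp φ p v) i.2.1)
  · have hcomm : ∀ i l, ⁅Sp φ p w i, Sp φ p v l⁆ ≤ ⨆ i, Sp φ p (.br w v) i := by
      intro i l
      refine (le_iSup_fix φ hA hG _ (commutator_inv φ (Sp_inv φ p w i) (Sp_inv φ p v l))).trans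
        (iSup_le fun B => ?_)
      exact le_iSup (Sp φ p (.br w v)) (i, l, B)
    have hnv : ∀ l, Sp φ p v l ≤ Subgroup.normalizer ((⨆ i, Sp φ p (.br w v) i : Subgroup G) : Set G) := by
      intro l
      have key : ∀ d ∈ Sp φ p v l, ∀ x ∈ ⨆ i, Sp φ p (.br w v) i, d * x * d⁻¹ ∈ ⨆ i, Sp φ p (.br w v) i := by
        intro d hd
        have h3 : (⨆ i, Sp φ p (.br w v) i) ≤
            (⨆ i, Sp φ p (.br w v) i).comap (MulAut.conj d).toMonoidHom := by
          refine iSup_le fun i x hx => ?_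
          change d * x * d⁻¹ ∈ ⨆ i, Sp φ p (.br w v) i
          obtain ⟨i', hi'⟩ := h2 i
          have h4 : ⁅x, d⁆ ∈ ⁅Sp φ p w i', Sp φ p v l⁆ :=
            Subgroup.commutator_mem_commutator (hi' hx) hd
          have h5 : d * x * d⁻¹ = ⁅x, d⁆⁻¹ * x := by
            rw [commutatorElement_def]; group
          rw [h5]
          exact mul_mem (inv_mem (hcomm _ _ h4)) ((le_iSup (Sp φ p (.br w v)) i) hx)
        exact h3
      intro d hd
      rw [Subgroup.mem_normalizer_iff]
      intro x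
      refine ⟨fun hx => key d hd x hx, fun hx => ?_⟩
      have h3 := key d⁻¹ (inv_mem hd) _ hx
      have h4 : d⁻¹ * (d * x * d⁻¹) * d⁻¹⁻¹ = x := by group
      rwa [h4] at h3
    have hnw : ∀ i, Sp φ p w i ≤ Subgroup.normalizer ((⨆ i, Sp φ p (.br w v) i : Subgroup G) : Set G) := by
      intro i
      obtain ⟨l, hl⟩ := h1 i
      exact hl.trans (hnv l)
    rw [ev_br, ← hw, ← hv]
    exact commutator_iSup_le _ _ _ hcomm hnw hnv

/-- **Lemma S.** -/
theorem iSup_Sp [Fact p.Prime] [Finite A] [Nontrivial A] (hA : ∀ a : A, a ^ p = 1)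
    [Finite G] (hG : ¬ p ∣ Nat.card G) (b : Bool) (j : ℕ) :
    ⨆ i, Sp φ p (W b j) i = ev (W b j) ⊤ := by
  have h0 : ⨆ i, Sp φ p .x i = ev .x (⊤ : Subgroup G) := iSup_fix_eq_top φ hA hG
  induction j with
  | zero => exact h0
  | succ j ih =>
    refine iSup_Sp_step φ p hA hG (Dom_W' φ p b j) (Dom_W φ p b j) ih ?_
    cases b with
    | true => exact h0
    | false => exact ih

/-- The closure property. -/
theorem Sp_closed (b : Bool) (j : ℕ) (i l : Ix A p (W b j)) (B : Subgroup A) (hB : B.index = p) :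
    ∃ r, ⁅Sp φ p (W b j) i, Sp φ p (W b j) l⁆ ⊓ fix φ B ≤ Sp φ p (W b j) r := by
  cases j with
  | zero => exact ⟨⟨B, hB⟩, inf_le_right⟩
  | succ j =>
    obtain ⟨i', hi'⟩ := Dom_W φ p b j i
    obtain ⟨l', hl'⟩ := Dom_W φ p b j l
    obtain ⟨l'', hl''⟩ := Dom_W' φ p b j l'
    exact ⟨(i', l'', ⟨B, hB⟩), inf_le_inf_right _ (Subgroup.commutator_mono hi' (hl'.trans hl''))⟩

end Cfsg.Agent.H476.Special
end

-- part: H476/SpNil
section
/-!
# Nilpotency of a verbal subgroup from the nilpotency of the verbal subgroups of the fixed points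

Solvable case.
-/

set_option autoImplicit false

namespace Cfsg.Agent.H476.SpNil

open Cfsg.Agent.Lib.CoprimeHyperplane Cfsg.Agent.H476.CopAct Cfsg.Agent.H476.GrSub
open Cfsg.Agent.H476.Special
open scoped commutatorElement

universe u

/-- The `q`-elements of a nilpotent subgroup form a subgroup. -/
theorem exists_qpart {H : Type*} [Group H] [Finite H] (K : Subgroup H) (hK : Group.IsNilpotent K)
    (q : ℕ) [hq : Fact q.Prime] : ∃ Q : Subgroup H, ∀ x, x ∈ Q ↔ x ∈ K ∧ ∃ n, x ^ (q ^ n) = 1 := by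
  obtain ⟨P⟩ : Nonempty (Sylow q K) := inferInstance
  have hPn : (P : Subgroup K).Normal := by
    have := (Group.isNilpotent_of_finite_tfae (G := K)).out 0 3
    exact (this.1 hK) q hq P
  refine ⟨(P : Subgroup K).map K.subtype, fun x => ⟨?_, ?_⟩⟩
  · rintro ⟨y, hy, rfl⟩
    refine ⟨y.2, ?_⟩
    obtain ⟨n, hn⟩ := P.isPGroup' ⟨y, hy⟩
    refine ⟨n, ?_⟩
    have h1 := congrArg (fun z : (P : Subgroup K) => ((z : K) : H)) hn
    simpa using h1
  · rintro ⟨hx, n, hn⟩
    have hpg : IsPGroup q (Subgroup.zpowers (⟨x, hx⟩ : K)) := by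
      rw [IsPGroup.iff_card, Nat.card_zpowers]
      have : orderOf (⟨x, hx⟩ : K) ∣ q ^ n := by
        apply orderOf_dvd_of_pow_eq_one
        apply Subtype.ext
        simp [hn]
      exact (Nat.dvd_prime_pow hq.out).1 this |>.imp fun _ h => h.2
    obtain ⟨Q, hQ⟩ := hpg.exists_le_sylow
    have hPQ : P = Q := by
      have := P.unique_of_normal hPn
      exact Subsingleton.elim P Q
    exact ⟨⟨x, hx⟩, by rw [hPQ]; exact hQ (Subgroup.mem_zpowers _), rfl⟩

variable {A : Type*} [CommGroup A]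

/-- A minimal invariant normal subgroup of a solvable group. -/
theorem exists_minimal_inv {G : Type u} [Group G] [Finite G] [Nontrivial G] [Group.IsSolvable G]
    (φ : A →* MulAut G) : ∃ (N : Subgroup G) (q : ℕ), N ≠ ⊥ ∧ N.Normal ∧ (∀ a, ∀ x ∈ N, φ a x ∈ N) ∧
      (∀ M : Subgroup G, M.Normal → (∀ a, ∀ x ∈ M, φ a x ∈ M) → M ≤ N → M ≠ ⊥ → M = N) ∧
      q.Prime ∧ (∀ x ∈ N, x ^ q = 1) ∧ ∀ x ∈ N, ∀ y ∈ N, x * y = y * x := by
  obtain ⟨N, hN⟩ := exists_minimal_of_wellFoundedLT
    (fun N : Subgroup G => N ≠ ⊥ ∧ N.Normal ∧ ∀ a, ∀ x ∈ N, φ a x ∈ N)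
    ⟨⊤, (bot_ne_top).symm, inferInstance, fun _ _ _ => trivial⟩
  obtain ⟨⟨hN1, hN2, hN3⟩, hN4⟩ := hN
  have hmin : ∀ M : Subgroup G, M.Normal → (∀ a, ∀ x ∈ M, φ a x ∈ M) → M ≤ N → M ≠ ⊥ → M = N :=
    fun M h1 h2 h3 h4 => le_antisymm h3 (hN4 ⟨h4, h1, h2⟩ h3)
  have habel : ⁅N, N⁆ = ⊥ := by
    by_contra h
    have h1 := hmin ⁅N, N⁆ inferInstance (commutator_inv φ hN3 hN3)
      (Subgroup.commutator_le_left N N) h
    have h2 := Group.IsSolvable.commutator_lt_of_ne_bot (G := G) hN1
    exact h2.ne h1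
  have hcomm : ∀ x ∈ N, ∀ y ∈ N, x * y = y * x := by
    intro x hx y hy
    have h1 : ⁅x, y⁆ ∈ ⁅N, N⁆ := Subgroup.commutator_mem_commutator hx hy
    rw [habel, Subgroup.mem_bot] at h1
    exact commutatorElement_eq_one_iff_mul_comm.mp h1
  have hcard : Nat.card N ≠ 1 := fun h => hN1 (Subgroup.card_eq_one.mp h)
  obtain ⟨q, hq, hqd⟩ := Nat.exists_prime_and_dvd hcard
  refine ⟨N, q, hN1, hN2, hN3, hmin, hq, ?_, hcomm⟩
  let T : Subgroup G :=
    { carrier := {x | x ∈ N ∧ x ^ q = 1}
      one_mem' := ⟨one_mem _, one_pow _⟩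
      mul_mem' := by
        rintro x y ⟨hx, hx'⟩ ⟨hy, hy'⟩
        refine ⟨mul_mem hx hy, ?_⟩
        rw [(show Commute x y from hcomm x hx y hy).mul_pow, hx', hy', one_mul]
      inv_mem' := by
        rintro x ⟨hx, hx'⟩
        exact ⟨inv_mem hx, by rw [inv_pow, hx', inv_one]⟩ }
  have hTn : T.Normal := by
    constructor
    rintro x ⟨hx, hx'⟩ g
    exact ⟨hN2.conj_mem x hx g, by rw [conj_pow, hx']; group⟩
  have hTinv : ∀ a, ∀ x ∈ T, φ a x ∈ T := by
    rintro a x ⟨hx, hx'⟩
    exact ⟨hN3 a x hx, by rw [← map_pow, hx', map_one]⟩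
  have hTne : T ≠ ⊥ := by
    intro h
    haveI : Fact q.Prime := ⟨hq⟩
    obtain ⟨x, hx⟩ := exists_prime_orderOf_dvd_card' (G := N) q hqd
    have h1 : (x : G) ∈ T := ⟨x.2, by
      have := pow_orderOf_eq_one x
      rw [hx] at this
      exact congrArg Subtype.val this⟩
    rw [h, Subgroup.mem_bot] at h1
    have h2 : x = 1 := Subtype.ext h1
    rw [h2, orderOf_one] at hx
    exact hq.one_lt.ne hx
  have hTN : T = N := hmin T hTn hTinv (fun x hx => hx.1) hTne
  intro x hx
  rw [← hTN] at hx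
  exact hx.2

/-- `q'`-elements of `w(C(E))` centralize `N`. -/
theorem commute_of_qprime {G : Type u} [Group G] [Finite G] {p : ℕ} [Fact p.Prime] [Finite A]
    (hA : ∀ a : A, a ^ p = 1) (φ : A →* MulAut G) (hG : ¬ p ∣ Nat.card G) (w : Wd)
    (hnil : ∀ a : A, a ≠ 1 → Group.IsNilpotent ↥(ev w (fix φ (Subgroup.zpowers a))))
    {N : Subgroup G} (hNn : N.Normal) (hNinv : ∀ a, ∀ x ∈ N, φ a x ∈ N) {q : ℕ} (hq : q.Prime)
    (hNq : ∀ x ∈ N, x ^ q = 1) (E : Subgroup A) (hE : p ^ 2 ≤ Nat.card E)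
    {t : G} (ht : t ∈ ev w (fix φ E)) (htq : ¬ q ∣ orderOf t) {x : G} (hx : x ∈ N) : Commute x t := by
  have hp : p.Prime := Fact.out
  haveI : Nontrivial E := by
    rw [← Finite.one_lt_card_iff_nontrivial]
    have := hp.two_le
    nlinarith
  haveI : Fact q.Prime := ⟨hq⟩
  have hNpg : IsPGroup q N := fun x => ⟨1, by
    rw [pow_one]; exact Subtype.ext (hNq x x.2)⟩
  have hcop : (orderOf t).Coprime (Nat.card N) := by
    obtain ⟨n, hn⟩ := IsPGroup.iff_card.mp hNpg
    rw [hn]
    exact Nat.Coprime.pow_right n ((Nat.Prime.coprime_iff_not_dvd hq).mpr htq).symm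
  have h1 := le_iSup_fix (A := E) (φ.comp E.subtype) (p := p) (fun b => Subtype.ext (hA b)) hG N
    (fun a x hx => hNinv a x hx)
  have key : N ≤ Subgroup.centralizer ({t} : Set G) := by
    refine h1.trans (iSup_le ?_)
    rintro ⟨B, hB⟩ y ⟨hyN, hyB⟩
    have hBne : ∃ a ∈ B, a ≠ 1 := by
      by_contra hcon
      push Not at hcon
      have hB1 : B = ⊥ := (Subgroup.eq_bot_iff_forall B).mpr hcon
      change B.index = p at hB
      rw [hB1, Subgroup.index_bot] at hB
      have := hp.two_le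
      nlinarith
    obtain ⟨a, haB, ha1⟩ := hBne
    have ha1' : (a : A) ≠ 1 := fun h => ha1 (Subtype.ext h)
    set C := fix φ (Subgroup.zpowers (a : A)) with hC
    have hV := hnil a ha1'
    have haE : Subgroup.zpowers (a : A) ≤ E := (Subgroup.zpowers_le).mpr a.2
    have htV : t ∈ ev w C := ev_mono (fix_anti φ haE) w ht
    have hyC : y ∈ C := by
      intro b hb
      obtain ⟨k, rfl⟩ := Subgroup.mem_zpowers_iff.mp hb
      exact hyB (a ^ k) (Subgroup.zpow_mem _ haB k)
    have hc1 : ⁅y, t⁆ ∈ ev w C := by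
      rw [commutatorElement_def]
      exact mul_mem (ev_conj w C hyC htV) (inv_mem htV)
    have hc2 : ⁅y, t⁆ ∈ N := by
      have e : ⁅y, t⁆ = y * (t * y⁻¹ * t⁻¹) := by rw [commutatorElement_def]; group
      rw [e]
      exact mul_mem hyN (hNn.conj_mem _ (inv_mem hyN) t)
    have hc3 : ⁅y, t⁆ ^ q = 1 := hNq _ hc2
    have hc4 : Commute ⁅y, t⁆ t := by
      have h5 : Commute (⟨⁅y, t⁆, hc1⟩ : ev w C) (⟨t, htV⟩ : ev w C) := by
        have := hV
        refine Lib.NilpotentCoprime.commute_of_pow_eq_one (m := q) (n := orderOf t)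
          ((Nat.Prime.coprime_iff_not_dvd hq).mpr htq) ?_ ?_
        · exact Subtype.ext hc3
        · exact Subtype.ext (pow_orderOf_eq_one t)
      exact congrArg Subtype.val h5.eq
    have hc5 := Lib.CoprimeStab.commute_of_commutator_commute hcop hc2 hc4
    rw [Subgroup.mem_centralizer_iff]
    intro s hs
    rw [Set.mem_singleton_iff.mp hs]
    exact hc5.symm.eq
  have h2 := Subgroup.mem_centralizer_iff.mp (key hx) t rfl
  exact h2.symm

/-- **Nilpotency of the verbal subgroup.** -/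
theorem nilpotent_ev {p : ℕ} [Fact p.Prime] [Finite A] (hA : ∀ a : A, a ^ p = 1) (b : Bool) (j : ℕ)
    (hcard : p ^ (leaves (W b j)) * p ^ 2 ≤ Nat.card A) (c : ℕ) (n : ℕ) :
    ∀ (G : Type u) [Group G] [Finite G] [Group.IsSolvable G] (φ : A →* MulAut G),
      ¬ p ∣ Nat.card G → Nat.card G ≤ n →
      (∀ a : A, a ≠ 1 → (ev (W b j) (fix φ (Subgroup.zpowers a))).lowerCentralSeries c = ⊥) →
      Group.IsNilpotent ↥(ev (W b j) (⊤ : Subgroup G)) := by
  have hp : p.Prime := Fact.out
  haveI : Nontrivial A := by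
    rw [← Finite.one_lt_card_iff_nontrivial]
    have h1 := Nat.one_le_pow (leaves (W b j)) p hp.pos
    have := hp.two_le
    nlinarith
  induction n with
  | zero =>
    intro G _ _ _ φ _ h0
    exact absurd (Nat.le_zero.mp h0) Nat.card_pos.ne'
  | succ n ih =>
    intro G _ _ _ φ hG hGn hfix
    by_cases hnt : Nontrivial G
    swap
    · rw [not_nontrivial_iff_subsingleton] at hnt
      infer_instance
    obtain ⟨N, q, hN1, hN2, hN3, hmin, hq, hNq, hNc⟩ := exists_minimal_inv φ
    haveI : Fact q.Prime := ⟨hq⟩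
    set w := W b j with hw
    -- the quotient
    have hNp : ¬ p ∣ Nat.card N := fun h => hG (h.trans (Subgroup.card_subgroup_dvd_card N))
    have hcardQ : Nat.card (G ⧸ N) ≤ n := by
      have h1 := Subgroup.card_eq_card_quotient_mul_card_subgroup N
      have h2 : 2 ≤ Nat.card N := by
        have h3 : Nat.card N ≠ 1 := fun h => hN1 (Subgroup.card_eq_one.mp h)
        have h4 : 0 < Nat.card N := Nat.card_pos
        omega
      have h3 : 0 < Nat.card (G ⧸ N) := Nat.card_pos
      nlinarith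
    have hpQ : ¬ p ∣ Nat.card (G ⧸ N) := fun h => hG (h.trans (Subgroup.card_quotient_dvd_card N))
    have hpA : IsPGroup p A := fun a => ⟨1, by rw [pow_one]; exact hA a⟩
    have hnilQ : Group.IsNilpotent ↥(ev w (⊤ : Subgroup (G ⧸ N))) := by
      refine ih (G ⧸ N) (quo φ N hN3) hpQ hcardQ fun a ha => ?_
      rw [fix_quo φ (hpA.to_subgroup _) N hN3 hNp, ← ev_map, ← Subgroup.map_lowerCentralSeries,
        hfix a ha, Subgroup.map_bot]
    have hmap : (ev w (⊤ : Subgroup G)).map (QuotientGroup.mk' N) = ev w (⊤ : Subgroup (G ⧸ N)) := by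
      rw [ev_map, ← MonoidHom.range_eq_map, QuotientGroup.range_mk']
    -- the `q`-part
    obtain ⟨Q', hQ'⟩ := exists_qpart (ev w (⊤ : Subgroup (G ⧸ N))) hnilQ q
    let Q : Subgroup G := Q'.comap (QuotientGroup.mk' N)
    have hQmem : ∀ x : G, x ∈ Q ↔ (QuotientGroup.mk x : G ⧸ N) ∈ ev w (⊤ : Subgroup (G ⧸ N)) ∧
        ∃ n, (QuotientGroup.mk x : G ⧸ N) ^ (q ^ n) = 1 := fun x => hQ' _
    have hNQ : N ≤ Q := by
      intro x hx
      rw [hQmem, (QuotientGroup.eq_one_iff x).mpr hx]
      exact ⟨one_mem _, 0, one_pow _⟩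
    have hQn : Q.Normal := by
      constructor
      intro x hx g
      rw [hQmem] at hx ⊢
      obtain ⟨h1, n, h2⟩ := hx
      rw [QuotientGroup.mk_mul, QuotientGroup.mk_mul, QuotientGroup.mk_inv]
      refine ⟨ev_conj w ⊤ trivial h1, n, ?_⟩
      rw [conj_pow, h2]; group
    have hQinv : ∀ a, ∀ x ∈ Q, φ a x ∈ Q := by
      intro a x hx
      rw [hQmem] at hx ⊢
      obtain ⟨h1, n, h2⟩ := hx
      rw [← quo_mk φ N hN3]
      refine ⟨ev_inv (quo φ N hN3) (U := ⊤) (fun _ _ _ => Subgroup.mem_top _) w a _ h1, n, ?_⟩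
      rw [← map_pow, h2, map_one]
    have hQq : IsPGroup q Q := by
      intro x
      obtain ⟨h1, n, h2⟩ := (hQmem x).mp x.2
      refine ⟨n + 1, Subtype.ext ?_⟩
      have h3 : (x : G) ^ (q ^ n) ∈ N := by
        rw [← QuotientGroup.eq_one_iff, QuotientGroup.mk_pow]; exact h2
      have h4 := hNq _ h3
      rw [← pow_mul, ← pow_succ] at h4
      exact h4
    have hNQc : ⁅N, Q⁆ = ⊥ := by
      by_contra hne
      have h1 := hmin ⁅N, Q⁆ inferInstance (commutator_inv φ hN3 hQinv)
        (Subgroup.commutator_le_left N Q) hne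
      have h2 : ∀ k, N ≤ Q.lowerCentralSeries k := by
        intro k
        induction k with
        | zero => exact hNQ
        | succ k ih' =>
          rw [Subgroup.lowerCentralSeries_succ]
          exact h1.ge.trans (Subgroup.commutator_mono ih' le_rfl)
      have h3 : Group.IsNilpotent Q := hQq.isNilpotent
      obtain ⟨k, hk⟩ := (Subgroup.isNilpotent_iff_lowerCentralSeries Q).mp h3
      have h4 := h2 k
      rw [hk] at h4
      exact hN1 (le_bot_iff.mp h4)
    have hqel : ∀ x ∈ ev w (⊤ : Subgroup G), (∃ n, x ^ (q ^ n) = 1) →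
        x ∈ Subgroup.centralizer (N : Set G) := by
      rintro x hx ⟨n, hn⟩
      have hxQ : x ∈ Q := by
        rw [hQmem]
        refine ⟨?_, n, ?_⟩
        · rw [← hmap]; exact ⟨x, hx, rfl⟩
        · rw [← QuotientGroup.mk_pow, hn, QuotientGroup.mk_one]
      rw [Subgroup.mem_centralizer_iff]
      intro y hy
      have h1 : ⁅y, x⁆ ∈ ⁅N, Q⁆ := Subgroup.commutator_mem_commutator hy hxQ
      rw [hNQc, Subgroup.mem_bot] at h1
      exact commutatorElement_eq_one_iff_mul_comm.mp h1
    -- everything centralizes `N`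
    have hnilfix : ∀ a : A, a ≠ 1 → Group.IsNilpotent ↥(ev w (fix φ (Subgroup.zpowers a))) :=
      fun a ha => Subgroup.isNilpotent_of_lowerCentralSeries_eq_bot (hfix a ha)
    have hcent : ev w (⊤ : Subgroup G) ≤ Subgroup.centralizer (N : Set G) := by
      rw [hw, ← iSup_Sp φ p hA hG b j]
      refine iSup_le fun i v hv => ?_
      have hidx := Bx_index p hp.pos (W b j) i
      have hcardE : p ^ 2 ≤ Nat.card (Bx p (W b j) i) := by
        have h1 := (Bx p (W b j) i).card_mul_index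
        have h2 : p ^ leaves (W b j) * p ^ 2 ≤ Nat.card (Bx p (W b j) i) * p ^ leaves (W b j) := by
          refine hcard.trans ?_
          rw [← h1]
          exact Nat.mul_le_mul_left _ hidx
        rw [mul_comm] at h2
        exact Nat.le_of_mul_le_mul_right h2 (pow_pos hp.pos _)
      have hvE := Sp_le_ev φ p (W b j) i hv
      set E := Bx p (W b j) i with hE
      have hvT : v ∈ ev w (⊤ : Subgroup G) := ev_mono le_top w hvE
      -- decompose
      obtain ⟨e, m, hm, hem⟩ := Nat.exists_eq_pow_mul_and_not_dvd (orderOf_pos v).ne' q hq.ne_one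
      have h1 : v ^ m ∈ Subgroup.centralizer (N : Set G) := by
        apply hqel _ (pow_mem hvT m)
        refine ⟨e, ?_⟩
        rw [← pow_mul, mul_comm, ← hem, pow_orderOf_eq_one]
      have h2 : v ^ (q ^ e) ∈ Subgroup.centralizer (N : Set G) := by
        rw [Subgroup.mem_centralizer_iff]
        intro x hx
        refine (commute_of_qprime hA φ hG w hnilfix hN2 hN3 hq hNq E hcardE
          (pow_mem hvE (q ^ e)) ?_ hx).eq
        have h3 : orderOf (v ^ (q ^ e)) ∣ m := by
          apply orderOf_dvd_of_pow_eq_one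
          rw [← pow_mul, ← hem, pow_orderOf_eq_one]
        exact fun h => hm (h.trans h3)
      have hcop : (q ^ e).Coprime m :=
        Nat.Coprime.pow_left e ((Nat.Prime.coprime_iff_not_dvd hq).mpr hm)
      have h3 : v = (v ^ (q ^ e)) ^ (Nat.gcdA (q ^ e) m) * (v ^ m) ^ (Nat.gcdB (q ^ e) m) := by
        rw [← zpow_natCast, ← zpow_natCast v m, ← zpow_mul, ← zpow_mul, ← zpow_add,
          ← Nat.gcd_eq_gcd_ab, hcop, Nat.cast_one, zpow_one]
      rw [h3]
      exact mul_mem (zpow_mem h2 _) (zpow_mem h1 _)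
    -- conclusion
    let f : ↥(ev w (⊤ : Subgroup G)) →* G ⧸ N :=
      (QuotientGroup.mk' N).comp (ev w (⊤ : Subgroup G)).subtype
    have hrange : f.range = ev w (⊤ : Subgroup (G ⧸ N)) := by
      rw [MonoidHom.range_comp, Subgroup.subtype_range, hmap]
    haveI : Group.IsNilpotent f.range := by rw [hrange]; exact hnilQ
    refine Subgroup.isNilpotent_of_ker_le_center f.rangeRestrict ?_
    intro x hx
    rw [MonoidHom.mem_ker] at hx
    have hxN : (x : G) ∈ N := by
      have h1 : f x = 1 := congrArg Subtype.val hx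
      exact (QuotientGroup.eq_one_iff _).mp h1
    rw [Subgroup.mem_center_iff]
    intro y
    have h2 := Subgroup.mem_centralizer_iff.mp (hcent y.2) x hxN
    exact Subtype.ext h2.symm

end Cfsg.Agent.H476.SpNil
end

-- part: H476/SpMain
section
/-!
# Bounds for the class of a term of a central or derived series from the fixed points of a coprime
elementary abelian group of automorphisms
-/

set_option autoImplicit false

namespace Cfsg.Agent.H476.SpMain

open Cfsg.Agent.Lib.CoprimeHyperplane Cfsg.Agent.H476.CopAct Cfsg.Agent.H476.GrSub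
open Cfsg.Agent.H476.Special Cfsg.Agent.H476.LieBound Cfsg.Agent.H449
open scoped commutatorElement

section

variable {G : Type*} [Group G]

theorem map_derivedSeries_eq (U : Subgroup G) (n : ℕ) : (derivedSeries U n).map U.subtype = dS U n := by
  induction n with
  | zero =>
    rw [derivedSeries_zero, ← MonoidHom.range_eq_map, Subgroup.subtype_range]
    rfl
  | succ n ih => rw [derivedSeries_succ, Subgroup.map_commutator, ih, dS_succ]

theorem derivedSeries_eq_dS (n : ℕ) : derivedSeries G n = dS (⊤ : Subgroup G) n := by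
  induction n with
  | zero => rfl
  | succ n ih => rw [derivedSeries_succ, ih, dS_succ]

theorem isSolvable_of_dS (U : Subgroup G) {n : ℕ} (h : dS U n = ⊥) : Group.IsSolvable U := by
  rw [← map_derivedSeries_eq, Subgroup.map_eq_bot_iff_of_injective _ U.subtype_injective] at h
  exact ⟨n, h⟩

theorem dS_map {H : Type*} [Group H] (f : G →* H) (U : Subgroup G) (n : ℕ) :
    (dS U n).map f = dS (U.map f) n := by
  induction n with
  | zero => rfl
  | succ n ih => rw [dS_succ, Subgroup.map_commutator, ih, dS_succ]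

theorem dS_ev_eq_bot (w : Wd) (U : Subgroup G) {c : ℕ} (h : (ev w U).lowerCentralSeries c = ⊥) :
    dS U (depth w + c) = ⊥ := by
  rw [dS_add, eq_bot_iff, ← h]
  exact (dS_mono (dS_depth_le w U) c).trans (dS_le_lcs _ c)

theorem iterComm_mono {M M' S S' : Subgroup G} (hM : M ≤ M') (hS : S ≤ S') (n : ℕ) :
    iterComm M S n ≤ iterComm M' S' n := by
  induction n with
  | zero => exact hM
  | succ n ih => exact Subgroup.commutator_mono ih hS

theorem iterComm_map {H : Type*} [Group H] (f : G →* H) (M S : Subgroup G) (n : ℕ) :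
    (iterComm M S n).map f = iterComm (M.map f) (S.map f) n := by
  induction n with
  | zero => rfl
  | succ n ih => rw [iterComm_succ, Subgroup.map_commutator, ih, iterComm_succ]

/-- `[C, w(C), …, w(C)] = 1`. -/
theorem iterComm_ev_le (w : Wd) (C : Subgroup G) (n : ℕ) :
    iterComm C (ev w C) (n + 1) ≤ (ev w C).lowerCentralSeries n := by
  induction n with
  | zero =>
    change ⁅C, ev w C⁆ ≤ ev w C
    rw [Subgroup.commutator_le]
    intro x hx y hy
    rw [commutatorElement_def]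
    exact mul_mem (ev_conj w C hx hy) (inv_mem hy)
  | succ n ih =>
    rw [iterComm_succ, Subgroup.lowerCentralSeries_succ]
    exact Subgroup.commutator_mono ih le_rfl

end

/-- The class of `w(G)` for a group with a coprime action. -/
theorem class_ev_action {A G : Type*} [CommGroup A] [Finite A] [Group G] [Finite G] {p : ℕ}
    [Fact p.Prime] (hA : ∀ a : A, a ^ p = 1) (φ : A →* MulAut G) (hG : ¬ p ∣ Nat.card G)
    (b : Bool) (j c : ℕ) (hcard : p ^ (leaves (W b j)) * p ^ 2 ≤ Nat.card A)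
    (hcard3 : p ^ 3 ≤ Nat.card A)
    (hfix : ∀ a : A, a ≠ 1 → (ev (W b j) (fix φ (Subgroup.zpowers a))).lowerCentralSeries c = ⊥) :
    (ev (W b j) (⊤ : Subgroup G)).lowerCentralSeries
      (bnd p (cb (Nat.card {B : Subgroup A // B.index = p}) (W b j)) (c + 1)
        (depth (W b j) + c)) = ⊥ := by
  have hp : p.Prime := Fact.out
  have : Nontrivial A := by
    rw [← Finite.one_lt_card_iff_nontrivial]
    have h5 := hp.two_le
    nlinarith [Nat.pow_le_pow_left h5 3]
  have hsolv : Group.IsSolvable G := SpSolv.isSolvable_of_fix hA hcard3 φ hG fun a ha =>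
    isSolvable_of_dS _ (dS_ev_eq_bot _ _ (hfix a ha))
  have hnil := SpNil.nilpotent_ev hA b j hcard c _ G φ hG le_rfl hfix
  set w := W b j with hw
  set K := ev w (⊤ : Subgroup G) with hK
  have hKinv : ∀ a, ∀ x ∈ K, φ a x ∈ K := ev_inv φ (U := ⊤) (fun _ _ _ => Subgroup.mem_top _) w
  have hKp : ¬ p ∣ Nat.card K := fun h => hG (h.trans (Subgroup.card_subgroup_dvd_card K))
  have hfinIx : Finite (Ix A p w) := finite_Ix A p w
  have : Fintype (Ix A p w) := Fintype.ofFinite _
  have hSpK : ∀ i, Sp φ p w i ≤ K := fun i => (Sp_le_ev φ p w i).trans (ev_mono le_top w)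
  let P : Ix A p w → Subgroup K := fun i => (Sp φ p w i).subgroupOf K
  have hPmap : ∀ i, (P i).map K.subtype = Sp φ p w i := fun i =>
    Subgroup.map_subgroupOf_eq_of_le (hSpK i)
  have hfixmap : ∀ E : Subgroup A, (fix (res φ K hKinv) E).map K.subtype ≤ fix φ E := by
    rintro E _ ⟨x, hx, rfl⟩
    exact (mem_fix_res φ K hKinv E x).mp hx
  have hbot : ∀ X : Subgroup K, X.map K.subtype ≤ ⊥ → X = ⊥ := by
    intro X hX
    rw [← Subgroup.map_eq_bot_iff_of_injective _ K.subtype_injective]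
    exact le_bot_iff.mp hX
  obtain ⟨a₀, ha₀⟩ := exists_ne (1 : A)
  have key := class_bound hA hKp hnil (res φ K hKinv) P
    (fun i a x hx => Sp_inv φ p w i a x hx)
    (by
      apply Subgroup.map_injective K.subtype_injective
      rw [Subgroup.map_iSup, ← MonoidHom.range_eq_map, Subgroup.subtype_range]
      have h1 : ∀ i, (P i).map K.subtype = Sp φ p w i := hPmap
      rw [iSup_congr h1, iSup_Sp φ p hA hG b j])
    (by
      intro i l B hB
      obtain ⟨r, hr⟩ := Sp_closed φ p b j i l B hB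
      refine ⟨r, ?_⟩
      rintro x ⟨hx1, hx2⟩
      apply hr
      refine ⟨?_, (mem_fix_res φ K hKinv B x).mp hx2⟩
      have h1 : (x : G) ∈ ⁅P i, P l⁆.map K.subtype := ⟨x, hx1, rfl⟩
      rwa [Subgroup.map_commutator, hPmap, hPmap] at h1)
    (c + 1)
    (by
      intro i
      have hidx := Bx_index p hp.pos w i
      have hcardE : p ^ 2 ≤ Nat.card (Bx p w i) := by
        have h1 := (Bx p w i).card_mul_index
        have h2 : p ^ leaves w * p ^ 2 ≤ Nat.card (Bx p w i) * p ^ leaves w := by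
          refine hcard.trans ?_
          rw [← h1]
          exact Nat.mul_le_mul_left _ hidx
        rw [mul_comm] at h2
        exact Nat.le_of_mul_le_mul_right h2 (pow_pos hp.pos _)
      refine ⟨Bx p w i, ?_, ?_⟩
      · intro h
        rw [h, Subgroup.card_bot] at hcardE
        have h5 := hp.two_le
        nlinarith [Nat.pow_le_pow_left h5 2]
      · intro E' hE' hE'p
        have hne : ∃ a ∈ E', a ≠ 1 := by
          by_contra hcon
          push Not at hcon
          have hB1 : E' = ⊥ := (Subgroup.eq_bot_iff_forall E').mpr hcon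
          rw [hB1, Subgroup.relIndex_bot_left] at hE'p
          rw [hE'p] at hcardE
          have h5 := hp.two_le
          nlinarith
        obtain ⟨a, haE', ha1⟩ := hne
        apply hbot
        rw [iterComm_map, hPmap]
        have h1 : Sp φ p w i ≤ ev w (fix φ (Subgroup.zpowers a)) :=
          (Sp_le_ev φ p w i).trans (ev_mono (fix_anti φ ((Subgroup.zpowers_le).mpr (hE' haE'))) w)
        have h2 : (fix (res φ K hKinv) E').map K.subtype ≤ fix φ (Subgroup.zpowers a) :=
          (hfixmap E').trans (fix_anti φ ((Subgroup.zpowers_le).mpr haE'))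
        refine (iterComm_mono h2 h1 (c + 1)).trans ((iterComm_ev_le w _ c).trans ?_)
        rw [hfix a ha1])
    a₀ (depth w + c)
    (by
      apply hbot
      rw [dS_map]
      refine (dS_mono (hfixmap _) _).trans ?_
      rw [dS_ev_eq_bot w _ (hfix a₀ ha₀)])
  rw [← Nat.card_eq_fintype_card, card_Ix] at key
  rw [← Subgroup.top_subtype_lowerCentralSeries, key, Subgroup.map_bot]

/-- The main result, for subgroups of the automorphism group. -/
theorem class_ev (p k c : ℕ) (hp : p.Prime) (hk3 : 3 ≤ k) (b : Bool) (j : ℕ)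
    (hj : leaves (W b j) + 2 ≤ k) :
    ∃ B : ℕ, ∀ (G : Type) [Group G] [Finite G], (Nat.card G).Coprime p →
      ∀ A : Subgroup (MulAut G), Cfsg.IsElementaryAbelian p A → Nat.card ↥A = p ^ k →
        (∀ a ∈ A, a ≠ 1 → (ev (W b j)
          ((a : MulAut G).toMonoidHom.eqLocus (MonoidHom.id G))).lowerCentralSeries c = ⊥) →
        (ev (W b j) (⊤ : Subgroup G)).lowerCentralSeries B = ⊥ := by
  refine ⟨Finset.sup (Finset.range (2 ^ (p ^ k) + 1))
    (fun h => bnd p (cb h (W b j)) (c + 1) (depth (W b j) + c)), ?_⟩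
  intro G _ _ hG A hA hAcard hfix
  haveI : Fact p.Prime := ⟨hp⟩
  letI cA : CommGroup A :=
    { (inferInstance : Group A) with mul_comm := fun x y => hA.1.is_comm.comm x y }
  have hAp : ∀ a : A, a ^ p = 1 := fun a => Subtype.ext (hA.2 a a.2)
  have hGp : ¬ p ∣ Nat.card G := fun h =>
    hp.one_lt.ne' (Nat.eq_one_of_dvd_coprimes hG h dvd_rfl)
  have hfixeq : ∀ a : A, fix A.subtype (Subgroup.zpowers a) =
      ((a : MulAut G)).toMonoidHom.eqLocus (MonoidHom.id G) := by
    intro a
    apply le_antisymm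
    · intro x hx
      exact hx a (Subgroup.mem_zpowers a)
    · intro x hx c hc
      have hx' : (a : MulAut G) x = x := hx
      have h3 : ∀ n : ℕ, A.subtype (a ^ n) x = x := by
        intro n
        induction n with
        | zero => rw [pow_zero, map_one, MulAut.one_apply]
        | succ n ih =>
          rw [pow_succ, map_mul, MulAut.mul_apply]
          change A.subtype (a ^ n) ((a : MulAut G) x) = x
          rw [hx', ih]
      obtain ⟨k, rfl⟩ := (Submonoid.mem_powers_iff _ _).mp (mem_powers_iff_mem_zpowers.mpr hc)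
      exact h3 k
  have h1 := class_ev_action hAp A.subtype hGp b j c
    (by rw [hAcard, ← pow_add]; exact Nat.pow_le_pow_right hp.pos hj)
    (by rw [hAcard]; exact Nat.pow_le_pow_right hp.pos hk3)
    (by
      intro a ha
      rw [hfixeq]
      exact hfix a a.2 fun h => ha (Subtype.ext h))
  rw [eq_bot_iff, ← h1]
  apply Subgroup.lowerCentralSeries_antitone
  have hle : Nat.card {B : Subgroup A // B.index = p} ≤ 2 ^ (p ^ k) := by
    refine (Nat.card_le_card_of_injective (fun B : {B : Subgroup A // B.index = p} =>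
      ((B : Subgroup A) : Set A)) fun B C h => Subtype.ext (SetLike.coe_injective h)).trans ?_
    rw [← hAcard]
    have : Fintype A := Fintype.ofFinite _
    rw [Nat.card_eq_fintype_card, Nat.card_eq_fintype_card, Fintype.card_set]
  exact Finset.le_sup (f := fun h => bnd p (cb h (W b j)) (c + 1) (depth (W b j) + c))
    (Finset.mem_range.mpr (by omega))

end Cfsg.Agent.H476.SpMain
end
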